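import Mathlib
import Cfsg.Agent.Lib.Core.Zipper

/-!
# Groups generated by transvections over a prime field: pairs, invariant subspaces

`Pair G φ c`: the transvection `x ↦ x + φ x • c` lies in `G`.
-/

set_option autoImplicit false

namespace CfsgLib.McLaughlin

variable {p : ℕ} [Fact p.Prime] {V : Type*} [AddCommGroup V] [Module (ZMod p) V]

/-- The transvection `x ↦ x + φ x • c` (junk `1` unless `φ c = 0`). -/
noncomputable def tv (φ : Module.Dual (ZMod p) V) (c : V) : V ≃ₗ[ZMod p] V :=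
  open scoped Classical in if h : φ c = 0 then LinearEquiv.transvection h else 1

theorem tv_apply {φ : Module.Dual (ZMod p) V} {c : V} (h : φ c = 0) (x : V) :
    tv φ c x = x + φ x • c := by
  rw [tv, dif_pos h]
  simp [LinearMap.transvection.apply]

theorem tv_zero_left (c : V) : tv (0 : Module.Dual (ZMod p) V) c = 1 := by
  ext x; simp [tv_apply]

theorem tv_zero_right (φ : Module.Dual (ZMod p) V) : tv φ (0 : V) = 1 := by
  ext x; simp [tv_apply]

theorem tv_mul_left {φ ψ : Module.Dual (ZMod p) V} {c : V} (h : φ c = 0) (h' : ψ c = 0) :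
    tv φ c * tv ψ c = tv (φ + ψ) c := by
  ext x
  rw [LinearEquiv.mul_apply, tv_apply h', tv_apply h, tv_apply (show (φ + ψ) c = 0 by simp [h, h'])]
  simp only [map_add, map_smul, h, smul_eq_mul, mul_zero, add_zero, LinearMap.add_apply]
  module

theorem tv_mul_right {φ : Module.Dual (ZMod p) V} {c d : V} (h : φ c = 0) (h' : φ d = 0) :
    tv φ c * tv φ d = tv φ (c + d) := by
  ext x
  rw [LinearEquiv.mul_apply, tv_apply h', tv_apply h, tv_apply (show φ (c + d) = 0 by simp [h, h'])]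
  simp only [map_add, map_smul, h', smul_eq_mul, mul_zero, add_zero]
  module

theorem tv_smul (a : ZMod p) {φ : Module.Dual (ZMod p) V} {c : V} (h : φ c = 0) :
    tv (a • φ) c = tv φ (a • c) := by
  ext x
  rw [tv_apply (show (a • φ) c = 0 by simp [h]), tv_apply (show φ (a • c) = 0 by simp [h])]
  simp only [LinearMap.smul_apply, smul_eq_mul]
  module

theorem tv_pow {φ : Module.Dual (ZMod p) V} {c : V} (h : φ c = 0) (n : ℕ) :
    tv φ c ^ n = tv ((n : ZMod p) • φ) c := by
  induction n with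
  | zero => rw [pow_zero, Nat.cast_zero, zero_smul, tv_zero_left]
  | succ n ih =>
    rw [pow_succ, ih, tv_mul_left (by simp [h]) h, Nat.cast_succ, add_smul, one_smul]

theorem conj_tv (g : V ≃ₗ[ZMod p] V) {φ : Module.Dual (ZMod p) V} {c : V} (h : φ c = 0) :
    g * tv φ c * g⁻¹ = tv (φ ∘ₗ g.symm.toLinearMap) (g c) := by
  ext x
  rw [tv_apply (show (φ ∘ₗ g.symm.toLinearMap) (g c) = 0 by simp [h])]
  simp [LinearEquiv.mul_apply, LinearEquiv.coe_inv, tv_apply h, map_add, map_smul]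

theorem tv_det {φ : Module.Dual (ZMod p) V} {c : V} (h : φ c = 0) :
    LinearEquiv.det (tv φ c) = 1 := by
  rw [tv, dif_pos h]
  exact LinearEquiv.transvection.det_eq_one h

/-- The transvection with axis `φ` and centre `c` lies in `G`. -/
def Pair (G : Subgroup (V ≃ₗ[ZMod p] V)) (φ : Module.Dual (ZMod p) V) (c : V) : Prop :=
  φ c = 0 ∧ tv φ c ∈ G

variable {G : Subgroup (V ≃ₗ[ZMod p] V)}

theorem pair_zero_left (c : V) : Pair G 0 c := ⟨rfl, by rw [tv_zero_left]; exact G.one_mem⟩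

theorem pair_zero_right (φ : Module.Dual (ZMod p) V) : Pair G φ 0 :=
  ⟨map_zero φ, by rw [tv_zero_right]; exact G.one_mem⟩

theorem Pair.add_left {φ ψ : Module.Dual (ZMod p) V} {c : V} (h : Pair G φ c) (h' : Pair G ψ c) :
    Pair G (φ + ψ) c :=
  ⟨by simp [h.1, h'.1], by rw [← tv_mul_left h.1 h'.1]; exact G.mul_mem h.2 h'.2⟩

theorem Pair.add_right {φ : Module.Dual (ZMod p) V} {c d : V} (h : Pair G φ c) (h' : Pair G φ d) :
    Pair G φ (c + d) :=
  ⟨by simp [h.1, h'.1], by rw [← tv_mul_right h.1 h'.1]; exact G.mul_mem h.2 h'.2⟩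

theorem Pair.smul_left {φ : Module.Dual (ZMod p) V} {c : V} (h : Pair G φ c) (a : ZMod p) :
    Pair G (a • φ) c :=
  ⟨by simp [h.1], by
    rw [← ZMod.natCast_zmod_val a, ← tv_pow h.1]
    exact G.pow_mem h.2 _⟩

theorem Pair.smul_right {φ : Module.Dual (ZMod p) V} {c : V} (h : Pair G φ c) (a : ZMod p) :
    Pair G φ (a • c) :=
  ⟨by simp [h.1], by rw [← tv_smul a h.1]; exact (h.smul_left a).2⟩

theorem Pair.neg_left {φ : Module.Dual (ZMod p) V} {c : V} (h : Pair G φ c) : Pair G (-φ) c := by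
  rw [← neg_one_smul (ZMod p) φ]
  exact h.smul_left _

theorem Pair.sub_left {φ ψ : Module.Dual (ZMod p) V} {c : V} (h : Pair G φ c) (h' : Pair G ψ c) :
    Pair G (φ - ψ) c := by
  rw [sub_eq_add_neg]
  exact h.add_left h'.neg_left

theorem Pair.sub_right {φ : Module.Dual (ZMod p) V} {c d : V} (h : Pair G φ c) (h' : Pair G φ d) :
    Pair G φ (c - d) := by
  rw [sub_eq_add_neg, ← neg_one_smul (ZMod p) d]
  exact h.add_right (h'.smul_right _)

variable (G) in
/-- The axes of the transvections of `G` with centre `c`. -/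
def axes (c : V) : Submodule (ZMod p) (Module.Dual (ZMod p) V) where
  carrier := {φ | Pair G φ c}
  add_mem' h h' := Pair.add_left h h'
  zero_mem' := pair_zero_left c
  smul_mem' a _ h := Pair.smul_left h a

variable (G) in
/-- The centres of the transvections of `G` with axis `φ`. -/
def centres (φ : Module.Dual (ZMod p) V) : Submodule (ZMod p) V where
  carrier := {c | Pair G φ c}
  add_mem' h h' := Pair.add_right h h'
  zero_mem' := pair_zero_right φ
  smul_mem' a _ h := Pair.smul_right h a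

theorem Pair.conj {φ : Module.Dual (ZMod p) V} {c : V} (h : Pair G φ c) {g : V ≃ₗ[ZMod p] V}
    (hg : g ∈ G) : Pair G (φ ∘ₗ g.symm.toLinearMap) (g c) :=
  ⟨by simp [h.1], by rw [← conj_tv g h.1]; exact G.mul_mem (G.mul_mem hg h.2) (G.inv_mem hg)⟩

theorem tv_symm_apply {φ : Module.Dual (ZMod p) V} {c : V} (h : φ c = 0) (x : V) :
    (tv φ c).symm x = x - φ x • c := by
  rw [LinearEquiv.symm_apply_eq, tv_apply h]
  simp [map_sub, h]

/-- The commutator rule. -/
theorem Pair.rule {φ ψ : Module.Dual (ZMod p) V} {c d : V} (h : Pair G φ c) (h' : Pair G ψ d)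
    (h1 : φ d ≠ 0) (h2 : ψ c = 0) : Pair G ψ c := by
  have e : ψ ∘ₗ (tv φ c).symm.toLinearMap = ψ := by
    ext x; simp [tv_symm_apply h.1, h2]
  have h3 := h'.conj h.2
  rw [e, tv_apply h.1] at h3
  have h4 := (h3.sub_right h').smul_right (φ d)⁻¹
  rwa [add_sub_cancel_left, smul_smul, inv_mul_cancel₀ h1, one_smul] at h4

/-- The conjugate of one transvection by another. -/
theorem Pair.conj_pair {φ ψ : Module.Dual (ZMod p) V} {c d : V} (h : Pair G φ c) (h' : Pair G ψ d) :
    Pair G (ψ - ψ c • φ) (d + φ d • c) := by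
  have e : ψ ∘ₗ (tv φ c).symm.toLinearMap = ψ - ψ c • φ := by
    ext x; simp [tv_symm_apply h.1, mul_comm]
  have h3 := h'.conj h.2
  rwa [e, tv_apply h.1] at h3

/-- `G` is generated by its transvections and has trivial `p`-core. -/
structure TGroup (G : Subgroup (V ≃ₗ[ZMod p] V)) : Prop where
  gen : G ≤ Subgroup.closure {t | ∃ φ c, φ ≠ 0 ∧ c ≠ 0 ∧ Pair G φ c ∧ t = tv φ c}
  core : Cfsg.pCore p G = ⊥

/-- Invariance under `G`. -/
def Inv (G : Subgroup (V ≃ₗ[ZMod p] V)) (X : Submodule (ZMod p) V) : Prop :=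
  ∀ g ∈ G, ∀ x ∈ X, g x ∈ X

/-- `G` is a connected transvection group. -/
structure Conn (G : Subgroup (V ≃ₗ[ZMod p] V)) : Prop extends TGroup G where
  conn : ∀ K : Module.Dual (ZMod p) V → V → Prop,
    (∃ φ c, φ ≠ 0 ∧ c ≠ 0 ∧ Pair G φ c ∧ K φ c) →
    (∀ φ c ψ d, Pair G φ c → φ ≠ 0 → c ≠ 0 → Pair G ψ d → ψ ≠ 0 → d ≠ 0 →
      (φ d ≠ 0 ∨ ψ c ≠ 0) → K φ c → K ψ d) →
    ∀ φ c, φ ≠ 0 → c ≠ 0 → Pair G φ c → K φ c

theorem TGroup.inv_of_pairs [Finite V] (hG : TGroup G) {X : Submodule (ZMod p) V}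
    (h : ∀ φ c, φ ≠ 0 → c ≠ 0 → Pair G φ c → c ∈ X ∨ ∀ x ∈ X, φ x = 0) : Inv G X := by
  haveI : Finite (V ≃ₗ[ZMod p] V) := Finite.of_injective _ DFunLike.coe_injective
  intro g hg
  have hg' := hG.gen hg
  clear hg
  induction hg' using Subgroup.closure_induction with
  | mem t ht =>
    obtain ⟨φ, c, hφ, hc, hp', rfl⟩ := ht
    intro x hx
    rw [tv_apply hp'.1]
    rcases h φ c hφ hc hp' with h1 | h1
    · exact X.add_mem hx (X.smul_mem _ h1)
    · simpa [h1 x hx] using hx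
  | one => exact fun x hx => hx
  | mul a b _ _ iha ihb => exact fun x hx => iha _ (ihb x hx)
  | inv a _ iha =>
    intro x hx
    have hinj : Function.Injective (fun y : X => (⟨a y, iha y y.2⟩ : X)) := fun y z e =>
      Subtype.ext (a.injective (congrArg Subtype.val e))
    obtain ⟨y, hy⟩ := (Finite.injective_iff_surjective.1 hinj) ⟨x, hx⟩
    have e : a y = x := congrArg Subtype.val hy
    rw [LinearEquiv.coe_inv, ← e, LinearEquiv.symm_apply_apply]
    exact y.2

theorem Inv.pair {X : Submodule (ZMod p) V} (hX : Inv G X) {φ : Module.Dual (ZMod p) V} {c : V}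
    (h : Pair G φ c) : c ∈ X ∨ ∀ x ∈ X, φ x = 0 := by
  by_contra hc
  push Not at hc
  obtain ⟨h1, x, hx, h2⟩ := hc
  refine h1 ?_
  have h3 := X.sub_mem (hX _ h.2 x hx) hx
  rw [tv_apply h.1, add_sub_cancel_left] at h3
  simpa [smul_smul, inv_mul_cancel₀ h2] using X.smul_mem (φ x)⁻¹ h3

theorem nsmul_p_eq_zero (x : V) : p • x = 0 := by
  rw [← Nat.cast_smul_eq_nsmul (ZMod p), ZMod.natCast_self, zero_smul]

theorem pow_unipotent (hp2 : p ≠ 2) (g : V ≃ₗ[ZMod p] V) (x : V)
    (h : g (g (g x - x) - (g x - x)) = g (g x - x) - (g x - x)) : (g ^ p) x = x := by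
  set δ₁ := g x - x with h1
  set δ₂ := g δ₁ - δ₁ with h2
  have key : ∀ n : ℕ, (g ^ n) x = x + n • δ₁ + n.choose 2 • δ₂ := by
    intro n
    induction n with
    | zero => simp
    | succ n ih =>
      have e1 : g x = x + δ₁ := by rw [h1]; abel
      have e2 : g δ₁ = δ₁ + δ₂ := by rw [h2]; abel
      rw [pow_succ', LinearEquiv.mul_apply, ih, map_add, map_add, map_nsmul, map_nsmul, e1, e2, h,
        Nat.choose_succ_succ, Nat.choose_one_right]
      simp only [smul_add, succ_nsmul, add_nsmul]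
      abel
  have hd : p ∣ p.choose 2 := (Fact.out : p.Prime).dvd_choose_self two_ne_zero
    (lt_of_le_of_ne (Fact.out : p.Prime).two_le (Ne.symm hp2))
  obtain ⟨m, hm⟩ := hd
  rw [key p, hm, mul_nsmul, nsmul_p_eq_zero (p := p), nsmul_p_eq_zero (p := p), nsmul_zero,
    add_zero, add_zero]

/-- The stabiliser of a series `R ≤ U ≤ V` of invariant subspaces is trivial. -/
theorem TGroup.stab_eq_one [Finite V] (hp2 : p ≠ 2) (hG : TGroup G) {R U : Submodule (ZMod p) V}
    (_hRU : R ≤ U) (hR : Inv G R) (hU : Inv G U) {g : V ≃ₗ[ZMod p] V} (hg : g ∈ G)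
    (h1 : ∀ x ∈ R, g x = x) (h2 : ∀ x ∈ U, g x - x ∈ R) (h3 : ∀ x, g x - x ∈ U) : g = 1 := by
  haveI : Finite (V ≃ₗ[ZMod p] V) := Finite.of_injective _ DFunLike.coe_injective
  let Q : Subgroup G :=
    { carrier := {s | (∀ x ∈ R, (s : V ≃ₗ[ZMod p] V) x = x) ∧
        (∀ x ∈ U, (s : V ≃ₗ[ZMod p] V) x - x ∈ R) ∧ ∀ x, (s : V ≃ₗ[ZMod p] V) x - x ∈ U}
      one_mem' := ⟨fun x _ => rfl, fun x _ => by simp, fun x => by simp⟩
      mul_mem' := by
        rintro a b ⟨a1, a2, a3⟩ ⟨b1, b2, b3⟩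
        refine ⟨fun x hx => ?_, fun x hx => ?_, fun x => ?_⟩
        · rw [Subgroup.coe_mul, LinearEquiv.mul_apply, b1 x hx, a1 x hx]
        · have h := R.add_mem (a2 _ (hU _ b.2 x hx)) (b2 x hx)
          rwa [sub_add_sub_cancel] at h
        · have h := U.add_mem (a3 ((b : V ≃ₗ[ZMod p] V) x)) (b3 x)
          rwa [sub_add_sub_cancel] at h
      inv_mem' := by
        rintro a ⟨a1, a2, a3⟩
        refine ⟨fun x hx => ?_, fun x hx => ?_, fun x => ?_⟩
        · show (a : V ≃ₗ[ZMod p] V).symm x = x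
          rw [LinearEquiv.symm_apply_eq]
          exact (a1 x hx).symm
        · have h := R.neg_mem (a2 _ (hU _ (G.inv_mem a.2) x hx))
          simpa [LinearEquiv.coe_inv] using h
        · have h := U.neg_mem (a3 (((a : V ≃ₗ[ZMod p] V)⁻¹) x))
          simpa [LinearEquiv.coe_inv] using h }
  have hQn : Q.Normal := by
    constructor
    rintro q ⟨q1, q2, q3⟩ a
    have e : ∀ x : V, ((a * q * a⁻¹ : G) : V ≃ₗ[ZMod p] V) x - x =
        (a : V ≃ₗ[ZMod p] V) ((q : V ≃ₗ[ZMod p] V) ((a : V ≃ₗ[ZMod p] V).symm x) -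
          (a : V ≃ₗ[ZMod p] V).symm x) := fun x => by
      simp [LinearEquiv.mul_apply, LinearEquiv.coe_inv, map_sub]
    refine ⟨fun x hx => ?_, fun x hx => ?_, fun x => ?_⟩
    · have h := hR _ (G.inv_mem a.2) x hx
      rw [LinearEquiv.coe_inv] at h
      simp [LinearEquiv.mul_apply, LinearEquiv.coe_inv, q1 _ h]
    · rw [e]
      have h := hU _ (G.inv_mem a.2) x hx
      rw [LinearEquiv.coe_inv] at h
      exact hR _ a.2 _ (q2 _ h)
    · rw [e]
      exact hU _ a.2 _ (q3 _)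
  have hQp : IsPGroup p Q := by
    rintro ⟨q, q1, q2, q3⟩
    refine ⟨1, Subtype.ext (Subtype.ext (LinearEquiv.ext fun x => ?_))⟩
    simp only [pow_one, Subgroup.coe_pow, OneMemClass.coe_one, LinearEquiv.one_eq_refl,
      LinearEquiv.refl_apply]
    exact pow_unipotent hp2 _ x (q1 _ (q2 _ (q3 x)))
  have hQ : (⟨g, hg⟩ : G) ∈ Cfsg.pCore p G := by
    refine CfsgLib.Components.subnormal_pGroup_le_pCore hQn.isSubnormal hQp ?_
    exact ⟨h1, h2, h3⟩
  rw [hG.core, Subgroup.mem_bot] at hQ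
  exact congrArg Subtype.val hQ

theorem tv_ne_one {φ : Module.Dual (ZMod p) V} {c : V} (h : φ c = 0) (hφ : φ ≠ 0) (hc : c ≠ 0) :
    tv φ c ≠ 1 := by
  intro e
  refine hφ (LinearMap.ext fun x => ?_)
  have h1 := congrArg (fun t : V ≃ₗ[ZMod p] V => t x) e
  simp [tv_apply h] at h1
  simpa using h1.resolve_right hc

/-- A transvection with centre in and axis over an invariant subspace is trivial. -/
theorem TGroup.forbidden [Finite V] (hp2 : p ≠ 2) (hG : TGroup G) {X : Submodule (ZMod p) V}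
    (hX : Inv G X) {φ : Module.Dual (ZMod p) V} {c : V} (h : Pair G φ c) (hc : c ∈ X)
    (hφ : ∀ x ∈ X, φ x = 0) : φ = 0 ∨ c = 0 := by
  by_contra hh
  push Not at hh
  refine tv_ne_one h.1 hh.1 hh.2 (hG.stab_eq_one hp2 le_rfl hX hX h.2 (fun x hx => ?_)
    (fun x hx => ?_) (fun x => ?_))
  · simp [tv_apply h.1, hφ x hx]
  · simp [tv_apply h.1, hφ x hx]
  · rw [tv_apply h.1, add_sub_cancel_left]
    exact X.smul_mem _ hc

/-- In a connected group an invariant subspace contains all centres or lies in all axes. -/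
theorem Conn.centres_or_axes [Finite V] (hp2 : p ≠ 2) (hG : Conn G) {X : Submodule (ZMod p) V}
    (hX : Inv G X) :
    (∀ φ c, φ ≠ 0 → c ≠ 0 → Pair G φ c → c ∈ X) ∨
      ∀ φ c, φ ≠ 0 → c ≠ 0 → Pair G φ c → ∀ x ∈ X, φ x = 0 := by
  by_cases hex : ∃ φ c, φ ≠ 0 ∧ c ≠ 0 ∧ Pair G φ c ∧ c ∈ X
  · refine Or.inl (hG.conn (fun _ c => c ∈ X) hex ?_)
    intro φ c ψ d h hφ hc h' hψ hd hadj hcX
    by_contra hdX
    have hψX := (hX.pair h').resolve_left hdX
    have h1 : φ d ≠ 0 := hadj.resolve_right (not_not.2 (hψX c hcX))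
    rcases hG.forbidden hp2 hX (h.rule h' h1 (hψX c hcX)) hcX hψX with e | e
    · exact hψ e
    · exact hc e
  · push Not at hex
    exact Or.inr fun φ c hφ hc h => (hX.pair h).resolve_left (hex φ c hφ hc h)

/-- Every transvection has an opposite one. -/
theorem TGroup.exists_opposite [Finite V] (hp2 : p ≠ 2) (hG : TGroup G)
    {φ : Module.Dual (ZMod p) V} {c : V} (h : Pair G φ c) (hφ : φ ≠ 0) (hc : c ≠ 0) :
    ∃ ψ d, Pair G ψ d ∧ φ d ≠ 0 ∧ ψ c ≠ 0 := by
  haveI : Finite (V ≃ₗ[ZMod p] V) := Finite.of_injective _ DFunLike.coe_injective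
  by_contra hno
  push Not at hno
  set u : G := ⟨tv φ c, h.2⟩ with hu
  have hup : u ^ p = 1 := Subtype.ext (by
    show tv φ c ^ p = 1
    rw [tv_pow h.1, ZMod.natCast_self, zero_smul, tv_zero_left])
  have hB : ∀ g : G, IsPGroup p ↥(Subgroup.zpowers u ⊔
      (Subgroup.zpowers u).map (MulAut.conj g).toMonoidHom) := by
    intro g
    set ψ := φ ∘ₗ (g : V ≃ₗ[ZMod p] V).symm.toLinearMap with hψ
    set d := (g : V ≃ₗ[ZMod p] V) c with hd
    have h' : Pair G ψ d := h.conj g.2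
    have hval : ((g * u * g⁻¹ : G) : V ≃ₗ[ZMod p] V) = tv ψ d := conj_tv _ h.1
    have hchain : ∃ (R U : Submodule (ZMod p) V), R ≤ U ∧
        (∀ x ∈ R, φ x = 0 ∧ ψ x = 0) ∧
        (∀ x ∈ U, φ x • c ∈ R ∧ ψ x • d ∈ R) ∧ c ∈ U ∧ d ∈ U := by
      rcases eq_or_ne (φ d) 0 with h0 | h0
      · refine ⟨Submodule.span (ZMod p) {d}, Submodule.span (ZMod p) {c, d},
          Submodule.span_mono (by simp), ?_, ?_, Submodule.subset_span (by simp),
          Submodule.subset_span (by simp)⟩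
        · intro x hx
          obtain ⟨a, rfl⟩ := Submodule.mem_span_singleton.1 hx
          simp [h0, h'.1]
        · intro x hx
          obtain ⟨a, b, rfl⟩ := Submodule.mem_span_pair.1 hx
          refine ⟨by simp [h.1, h0], ?_⟩
          exact Submodule.smul_mem _ _ (Submodule.mem_span_singleton_self d)
      · have h1 : ψ c = 0 := hno ψ d h' h0
        refine ⟨Submodule.span (ZMod p) {c}, Submodule.span (ZMod p) {c, d},
          Submodule.span_mono (by simp), ?_, ?_, Submodule.subset_span (by simp),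
          Submodule.subset_span (by simp)⟩
        · intro x hx
          obtain ⟨a, rfl⟩ := Submodule.mem_span_singleton.1 hx
          simp [h.1, h1]
        · intro x hx
          obtain ⟨a, b, rfl⟩ := Submodule.mem_span_pair.1 hx
          exact ⟨Submodule.smul_mem _ _ (Submodule.mem_span_singleton_self c), by simp [h1, h'.1]⟩
    obtain ⟨R, U, hRU, hR, hU, hcU, hdU⟩ := hchain
    let Q : Subgroup G :=
      { carrier := {s | (∀ x ∈ R, (s : V ≃ₗ[ZMod p] V) x = x) ∧
          (∀ x ∈ U, (s : V ≃ₗ[ZMod p] V) x - x ∈ R) ∧ ∀ x, (s : V ≃ₗ[ZMod p] V) x - x ∈ U}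
        one_mem' := ⟨fun x _ => rfl, fun x _ => by simp, fun x => by simp⟩
        mul_mem' := by
          rintro a b ⟨a1, a2, a3⟩ ⟨b1, b2, b3⟩
          refine ⟨fun x hx => ?_, fun x hx => ?_, fun x => ?_⟩
          · rw [Subgroup.coe_mul, LinearEquiv.mul_apply, b1 x hx, a1 x hx]
          · have hb : (b : V ≃ₗ[ZMod p] V) x ∈ U := by simpa using U.add_mem (hRU (b2 x hx)) hx
            have h := R.add_mem (a2 _ hb) (b2 x hx)
            rwa [sub_add_sub_cancel] at h
          · have h := U.add_mem (a3 ((b : V ≃ₗ[ZMod p] V) x)) (b3 x)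
            rwa [sub_add_sub_cancel] at h
        inv_mem' := by
          rintro a ⟨a1, a2, a3⟩
          have hi : ∀ x ∈ U, (a : V ≃ₗ[ZMod p] V).symm x ∈ U := fun x hx => by
            simpa using U.sub_mem hx (a3 ((a : V ≃ₗ[ZMod p] V).symm x))
          refine ⟨fun x hx => ?_, fun x hx => ?_, fun x => ?_⟩
          · show (a : V ≃ₗ[ZMod p] V).symm x = x
            rw [LinearEquiv.symm_apply_eq]
            exact (a1 x hx).symm
          · have h := R.neg_mem (a2 _ (hi x hx))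
            simpa [LinearEquiv.coe_inv] using h
          · have h := U.neg_mem (a3 (((a : V ≃ₗ[ZMod p] V)⁻¹) x))
            simpa [LinearEquiv.coe_inv] using h }
    have hQp : IsPGroup p Q := by
      rintro ⟨q, q1, q2, q3⟩
      refine ⟨1, Subtype.ext (Subtype.ext (LinearEquiv.ext fun x => ?_))⟩
      simp only [pow_one, Subgroup.coe_pow, OneMemClass.coe_one, LinearEquiv.one_eq_refl,
        LinearEquiv.refl_apply]
      exact pow_unipotent hp2 _ x (q1 _ (q2 _ (q3 x)))
    have huQ : u ∈ Q := by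
      refine ⟨fun x hx => ?_, fun x hx => ?_, fun x => ?_⟩
      · simp [hu, tv_apply h.1, (hR x hx).1]
      · simpa [hu, tv_apply h.1] using (hU x hx).1
      · simpa [hu, tv_apply h.1] using U.smul_mem (φ x) hcU
    have hgQ : g * u * g⁻¹ ∈ Q := by
      refine ⟨fun x hx => ?_, fun x hx => ?_, fun x => ?_⟩
      · rw [hval]; simp [tv_apply h'.1, (hR x hx).2]
      · rw [hval]; simpa [tv_apply h'.1] using (hU x hx).2
      · rw [hval]; simpa [tv_apply h'.1] using U.smul_mem (ψ x) hdU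
    refine hQp.to_le (sup_le (Subgroup.zpowers_le.2 huQ) ?_)
    rw [MonoidHom.map_zpowers]
    exact Subgroup.zpowers_le.2 hgQ
  obtain ⟨hsn, -⟩ := CfsgLib.Core.isSubnormal_of_nilpotent_join (A := Subgroup.zpowers u)
    (fun g => (hB g).isNilpotent)
  have hX : IsPGroup p (Subgroup.zpowers u) := (hB 1).to_le le_sup_left
  have hle := CfsgLib.Components.subnormal_pGroup_le_pCore hsn hX (Subgroup.mem_zpowers u)
  rw [hG.core, Subgroup.mem_bot] at hle
  exact tv_ne_one h.1 hφ hc (congrArg Subtype.val hle)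

end CfsgLib.McLaughlin
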