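import Cfsg.Agent.Lib.Recog.McLaughlin.Piece

/-!
# Transvection groups split into connected components
-/

set_option autoImplicit false

namespace CfsgLib.McLaughlin

open Module

variable {p : ℕ} [Fact p.Prime] {V : Type*} [AddCommGroup V] [Module (ZMod p) V] [Finite V]

/-- Elements of order `p` fixing a hyperplane are transvections. -/
theorem exists_tv {t : V ≃ₗ[ZMod p] V} (hord : orderOf t = p)
    (hker : Module.finrank (ZMod p) ↥(LinearMap.ker ((t : V →ₗ[ZMod p] V) - LinearMap.id)) + 1 =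
      Module.finrank (ZMod p) V) :
    ∃ φ c, φ ≠ 0 ∧ c ≠ 0 ∧ φ c = 0 ∧ t = tv φ c := by
  classical
  set N : V →ₗ[ZMod p] V := (t : V →ₗ[ZMod p] V) - LinearMap.id with hN
  have hrange : Module.finrank (ZMod p) (LinearMap.range N) = 1 := by
    have := LinearMap.finrank_range_add_finrank_ker N
    omega
  obtain ⟨⟨c, hc⟩, hc0, hspan⟩ := finrank_eq_one_iff'.1 hrange
  have hc0' : c ≠ 0 := fun e => hc0 (Subtype.ext e)
  have hex : ∀ x, ∃ a : ZMod p, a • c = N x := fun x => by
    obtain ⟨a, ha⟩ := hspan ⟨N x, LinearMap.mem_range_self N x⟩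
    exact ⟨a, congrArg Subtype.val ha⟩
  choose φ₀ hφ₀ using hex
  let φ : Dual (ZMod p) V :=
    { toFun := φ₀
      map_add' := fun x y => smul_left_injective (ZMod p) hc0' (by
        show φ₀ (x + y) • c = (φ₀ x + φ₀ y) • c
        rw [add_smul, hφ₀, hφ₀, hφ₀, map_add])
      map_smul' := fun a x => smul_left_injective (ZMod p) hc0' (by
        show φ₀ (a • x) • c = (a * φ₀ x) • c
        rw [mul_smul, hφ₀, hφ₀, map_smul]) }
  have hφ : ∀ x, t x = x + φ x • c := fun x => by
    show t x = x + φ₀ x • c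
    rw [hφ₀, hN]
    simp
  have htp : t ^ p = 1 := orderOf_dvd_iff_pow_eq_one.1 (dvd_of_eq hord)
  have hpow : ∀ n : ℕ, (t ^ n) c = (1 + φ c) ^ n • c := by
    intro n
    induction n with
    | zero => simp
    | succ n ih =>
      rw [pow_succ', LinearEquiv.mul_apply, ih, map_smul, hφ, pow_succ, mul_smul, add_smul, one_smul]
  have hφc : φ c = 0 := by
    have h := hpow p
    rw [htp, ZMod.pow_card, add_smul, one_smul] at h
    have h2 : φ c • c = 0 := by simpa using h
    exact (smul_eq_zero.1 h2).resolve_right hc0'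
  refine ⟨φ, c, fun e => ?_, hc0', hφc, LinearEquiv.ext fun x => ?_⟩
  · have h1 : t = 1 := LinearEquiv.ext fun x => by simp [hφ, e]
    rw [h1, orderOf_one] at hord
    exact (Fact.out : p.Prime).ne_one hord.symm
  · rw [hφ, tv_apply hφc]

theorem commute_tv {φ ψ : Dual (ZMod p) V} {c d : V} (h : φ c = 0) (h' : ψ d = 0) (h1 : φ d = 0)
    (h2 : ψ c = 0) : Commute (tv φ c) (tv ψ d) := by
  show tv φ c * tv ψ d = tv ψ d * tv φ c
  ext x
  simp [LinearEquiv.mul_apply, tv_apply h, tv_apply h', h1, h2]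
  abel

variable (H : Subgroup (V ≃ₗ[ZMod p] V))

/-- The transvections of `H`. -/
def Tr : Type _ := {x : Dual (ZMod p) V × V // x.1 ≠ 0 ∧ x.2 ≠ 0 ∧ Pair H x.1 x.2}

/-- Two transvections do not commute. -/
def adj (x y : Tr H) : Prop := x.1.1 y.1.2 ≠ 0 ∨ y.1.1 x.1.2 ≠ 0

/-- The components. -/
abbrev Comp : Type _ := Quot (adj H)

instance : Finite (Tr H) := by
  haveI : Finite (Dual (ZMod p) V) := Finite.of_injective _ DFunLike.coe_injective
  unfold Tr
  infer_instance

instance : Finite (Comp H) := Finite.of_surjective (Quot.mk (adj H)) Quot.mk_surjective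

/-- The group generated by a component. -/
def compGroup (q : Comp H) : Subgroup (V ≃ₗ[ZMod p] V) :=
  Subgroup.closure ((fun x : Tr H => tv x.1.1 x.1.2) '' {x | Quot.mk (adj H) x = q})

variable {H}

theorem compGroup_le (q : Comp H) : compGroup H q ≤ H := by
  rw [compGroup, Subgroup.closure_le]
  rintro _ ⟨x, -, rfl⟩
  exact x.2.2.2.2

theorem sep_of_ne {x y : Tr H} (h : Quot.mk (adj H) x ≠ Quot.mk (adj H) y) :
    x.1.1 y.1.2 = 0 ∧ y.1.1 x.1.2 = 0 := by
  by_contra hh
  exact h (Quot.sound (by rwa [adj, ← not_and_or]))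

theorem commute_of_ne {x y : Tr H} (h : Quot.mk (adj H) x ≠ Quot.mk (adj H) y) :
    Commute (tv x.1.1 x.1.2) (tv y.1.1 y.1.2) :=
  commute_tv x.2.2.2.1 y.2.2.2.1 (sep_of_ne h).1 (sep_of_ne h).2

theorem compGroup_normal (hH : TGroup H) (q : Comp H) :
    H ≤ Subgroup.normalizer (compGroup H q : Set (V ≃ₗ[ZMod p] V)) := by
  refine hH.gen.trans ((Subgroup.closure_le _).2 ?_)
  rintro _ ⟨φ, c, hφ, hc, hp, rfl⟩
  let y : Tr H := ⟨(φ, c), hφ, hc, hp⟩
  show tv y.1.1 y.1.2 ∈ _
  by_cases hy : Quot.mk (adj H) y = q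
  · exact Subgroup.le_normalizer (Subgroup.subset_closure ⟨y, hy, rfl⟩)
  · have hcen : compGroup H q ≤ Subgroup.centralizer {tv y.1.1 y.1.2} := by
      rw [compGroup, Subgroup.closure_le]
      rintro _ ⟨x, hx, rfl⟩
      rw [SetLike.mem_coe, Subgroup.mem_centralizer_singleton_iff]
      exact (commute_of_ne (x := x) (y := y) (fun e => hy (e ▸ hx))).eq
    refine Subgroup.centralizer_le_normalizer _ ?_
    rw [Subgroup.mem_centralizer_iff]
    intro g hg
    exact (Subgroup.mem_centralizer_singleton_iff.1 (hcen hg))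

theorem compGroup_core (hH : TGroup H) (q : Comp H) : Cfsg.pCore p (compGroup H q) = ⊥ := by
  haveI : Finite (V ≃ₗ[ZMod p] V) := Finite.of_injective _ DFunLike.coe_injective
  set K := compGroup H q with hK
  set K' := K.subgroupOf H with hK'
  haveI : K'.Normal := Subgroup.normal_subgroupOf_of_le_normalizer (compGroup_normal hH q)
  let f : ↥K →* ↥H := Subgroup.inclusion (compGroup_le q)
  set N := (Cfsg.pCore p ↥K).map f with hN
  have hNK : N ≤ K' := by
    rintro _ ⟨a, -, rfl⟩
    exact a.2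
  have hNn : (N.subgroupOf K').Normal := by
    refine ⟨fun n hn g => ?_⟩
    obtain ⟨a, ha, e⟩ := hn
    let g' : ↥K := ⟨((g : ↥H) : V ≃ₗ[ZMod p] V), g.2⟩
    refine ⟨g' * a * g'⁻¹, (CfsgLib.Components.pCore_normal p).conj_mem a ha g', ?_⟩
    rw [map_mul, map_mul, map_inv, e]
    rfl
  have hsn : N.IsSubnormal :=
    Subgroup.IsSubnormal.step N K' hNK (Subgroup.Normal.isSubnormal inferInstance) hNn
  have hbot := CfsgLib.Components.subnormal_pGroup_le_pCore hsn
    ((CfsgLib.Components.pCore_isPGroup p).map f)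
  rw [hH.core, le_bot_iff, hN, Subgroup.map_eq_bot_iff_of_injective _
    (Subgroup.inclusion_injective _)] at hbot
  exact hbot

/-- Transvections of a component group belong to the component. -/
theorem class_of_pair (hH : TGroup H) (q : Comp H) (x : Tr H)
    (hx : Pair (compGroup H q) x.1.1 x.1.2) : Quot.mk (adj H) x = q := by
  haveI : Finite (V ≃ₗ[ZMod p] V) := Finite.of_injective _ DFunLike.coe_injective
  by_contra hne
  set t : ↥(compGroup H q) := ⟨tv x.1.1 x.1.2, hx.2⟩ with ht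
  have hcen : compGroup H q ≤ Subgroup.centralizer {tv x.1.1 x.1.2} := by
    rw [compGroup, Subgroup.closure_le]
    rintro _ ⟨y, hy, rfl⟩
    rw [SetLike.mem_coe, Subgroup.mem_centralizer_singleton_iff]
    exact (commute_of_ne (x := y) (y := x) (fun e => hne (e ▸ hy))).eq
  have htc : t ∈ Subgroup.center ↥(compGroup H q) := by
    refine Subgroup.mem_center_iff.2 fun g => Subtype.ext ?_
    exact Subgroup.mem_centralizer_singleton_iff.1 (hcen g.2)
  have htp : IsPGroup p (Subgroup.zpowers t) := by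
    refine IsPGroup.of_card (n := 1) ?_
    rw [Nat.card_zpowers, pow_one]
    refine orderOf_eq_prime (Subtype.ext ?_) fun e => ?_
    · show tv x.1.1 x.1.2 ^ p = 1
      rw [tv_pow hx.1, ZMod.natCast_self, zero_smul, tv_zero_left]
    · exact tv_ne_one hx.1 x.2.1 x.2.2.1 (congrArg Subtype.val e)
  have hn : (Subgroup.zpowers t).Normal := ⟨fun a ha g => by
    have hac : a ∈ Subgroup.center ↥(compGroup H q) := Subgroup.zpowers_le.2 htc ha
    rwa [Subgroup.mem_center_iff.1 hac g, mul_inv_cancel_right]⟩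
  have h1 := CfsgLib.Components.le_pCore hn htp (Subgroup.mem_zpowers t)
  rw [compGroup_core hH q, Subgroup.mem_bot] at h1
  exact tv_ne_one hx.1 x.2.1 x.2.2.1 (congrArg Subtype.val h1)

theorem compGroup_conn (hH : TGroup H) (q : Comp H) : Conn (compGroup H q) := by
  refine ⟨⟨?_, compGroup_core hH q⟩, fun K hex hcl φ c hφ hc h => ?_⟩
  · rw [compGroup]
    refine Subgroup.closure_mono ?_
    rintro _ ⟨x, hx, rfl⟩
    exact ⟨x.1.1, x.1.2, x.2.1, x.2.2.1,
      ⟨x.2.2.2.1, Subgroup.subset_closure ⟨x, hx, rfl⟩⟩, rfl⟩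
  · obtain ⟨φ₀, c₀, hφ₀, hc₀, h₀, hK₀⟩ := hex
    have hle : ∀ {a b}, Pair (compGroup H q) a b → Pair H a b :=
      fun h => ⟨h.1, compGroup_le q h.2⟩
    let x₀ : Tr H := ⟨(φ₀, c₀), hφ₀, hc₀, hle h₀⟩
    let x : Tr H := ⟨(φ, c), hφ, hc, hle h⟩
    have hpr : ∀ z : Tr H, Quot.mk (adj H) z = q → Pair (compGroup H q) z.1.1 z.1.2 := fun z hz =>
      ⟨z.2.2.2.1, Subgroup.subset_closure ⟨z, hz, rfl⟩⟩
    have key : ∀ a b : Tr H, Relation.EqvGen (adj H) a b → Quot.mk (adj H) a = q →
        (K a.1.1 a.1.2 ↔ K b.1.1 b.1.2) := by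
      intro a b hab
      induction hab with
      | rel a b hab =>
        intro ha
        have hb : Quot.mk (adj H) b = q := (Quot.sound hab).symm.trans ha
        exact ⟨hcl _ _ _ _ (hpr a ha) a.2.1 a.2.2.1 (hpr b hb) b.2.1 b.2.2.1 hab,
          hcl _ _ _ _ (hpr b hb) b.2.1 b.2.2.1 (hpr a ha) a.2.1 a.2.2.1 hab.symm⟩
      | refl a => exact fun _ => Iff.rfl
      | symm a b hab ih =>
        intro hb
        exact (ih ((Quot.eqvGen_sound hab).trans hb)).symm
      | trans a b d hab _ ih1 ih2 =>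
        intro ha
        exact (ih1 ha).trans (ih2 ((Quot.eqvGen_sound hab).symm.trans ha))
    have e₀ := class_of_pair hH q x₀ h₀
    have e₁ := class_of_pair hH q x h
    exact (key x₀ x (Quot.eqvGen_exact (e₀.trans e₁.symm)) e₀).1 hK₀

theorem compGroup_piece (hp2 : p ≠ 2) (hH : TGroup H) (q : Comp H) :
    Nonempty (Piece (compGroup H q)) := by
  obtain ⟨x, hx⟩ := Quot.mk_surjective q
  have h : Pair (compGroup H q) x.1.1 x.1.2 :=
    ⟨x.2.2.2.1, Subgroup.subset_closure ⟨x, hx, rfl⟩⟩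
  exact (compGroup_conn hH q).piece hp2 h x.2.1 x.2.2.1

/-- The pieces of different components are orthogonal. -/
theorem piece_sep (hH : TGroup H) {q q' : Comp H} (hne : q ≠ q')
    (P : Piece (compGroup H q)) (P' : Piece (compGroup H q')) {u : V} (hu : u ∈ P.U) :
    P'.π u = 0 := by
  refine P'.sep u fun φ c hφ hc h => ?_
  have hs : Submodule.span (ZMod p) {c | c ≠ 0 ∧ ∃ φ, φ ≠ 0 ∧ Pair (compGroup H q) φ c} ≤
      LinearMap.ker φ := by
    refine Submodule.span_le.2 ?_
    rintro d ⟨hd, ψ, hψ, h'⟩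
    let x : Tr H := ⟨(φ, c), hφ, hc, h.1, compGroup_le _ h.2⟩
    let y : Tr H := ⟨(ψ, d), hψ, hd, h'.1, compGroup_le _ h'.2⟩
    have hx := class_of_pair hH q' x h
    have hy := class_of_pair hH q y h'
    exact (sep_of_ne (x := x) (y := y) (fun e => hne (hy.symm.trans (e.symm.trans hx)))).1
  exact hs (P.span hu)

/-- The restriction to an invariant subspace. -/
theorem exists_restrict {K : Subgroup (V ≃ₗ[ZMod p] V)} {X : Submodule (ZMod p) V} (hX : Inv K X) :
    ∃ ρ : ↥K →* (↥X ≃ₗ[ZMod p] ↥X),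
      ∀ (h : ↥K) (v : ↥X), ((ρ h v : ↥X) : V) = (h : V ≃ₗ[ZMod p] V) (v : V) := by
  let r : ↥K → (↥X ≃ₗ[ZMod p] ↥X) := fun h =>
    { toFun := fun v => ⟨(h : V ≃ₗ[ZMod p] V) v, hX _ h.2 v v.2⟩
      invFun := fun v => ⟨((h : V ≃ₗ[ZMod p] V)⁻¹) v, hX _ (K.inv_mem h.2) v v.2⟩
      map_add' := fun v w => Subtype.ext (map_add _ _ _)
      map_smul' := fun a v => Subtype.ext (map_smul _ _ _)
      left_inv := fun v => Subtype.ext (by simp [LinearEquiv.coe_inv])
      right_inv := fun v => Subtype.ext (by simp [LinearEquiv.coe_inv]) }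
  exact ⟨MonoidHom.mk' r fun a b => LinearEquiv.ext fun v => Subtype.ext rfl, fun h v => rfl⟩

/-- `K` fixes the kernel of the projection and stabilises the summand. -/
theorem Piece.fix_ker {K : Subgroup (V ≃ₗ[ZMod p] V)} (P : Piece K) (hK : TGroup K)
    {g : V ≃ₗ[ZMod p] V} (hg : g ∈ K) {x : V} (hx : P.π x = 0) : g x = x := by
  have hg' := hK.gen hg
  clear hg
  induction hg' using Subgroup.closure_induction with
  | mem t ht =>
    obtain ⟨φ, c, hφ, hc, hp, rfl⟩ := ht
    rw [tv_apply hp.1, (P.pair_mem φ c hφ hc hp).2 x, hx, map_zero, zero_smul, add_zero]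
  | one => rfl
  | mul a b _ _ iha ihb => rw [LinearEquiv.mul_apply, ihb, iha]
  | inv a _ iha => rw [LinearEquiv.coe_inv, LinearEquiv.symm_apply_eq, iha]

theorem Piece.inv {K : Subgroup (V ≃ₗ[ZMod p] V)} (P : Piece K) (hK : TGroup K) : Inv K P.U :=
  hK.inv_of_pairs fun φ c hφ hc h => Or.inl (P.pair_mem φ c hφ hc h).1

/-- Summands of the decomposition. -/
structure Decomp (H : Subgroup (V ≃ₗ[ZMod p] V)) where
  n : ℕ
  pos : 1 ≤ n
  W : Fin (n + 1) → Submodule (ZMod p) V
  K : Fin n → Subgroup (V ≃ₗ[ZMod p] V)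
  internal : DirectSum.IsInternal W
  le : ∀ j, K j ≤ H
  normal : ∀ j, ((K j).subgroupOf H).Normal
  gen : ⨆ j, K j = H
  trivialAct : ∀ j, ∀ h ∈ K j, ∀ i : Fin (n + 1), i ≠ j.succ → ∀ v ∈ W i, h v = v
  invW : ∀ j, Inv (K j) (W j.succ)
  comm : ∀ j j', j ≠ j' → ∀ a ∈ K j, ∀ b ∈ K j', a * b = b * a
  shape : ∀ j (ρ : ↥(K j) →* (↥(W j.succ) ≃ₗ[ZMod p] ↥(W j.succ))),
    (∀ (h : ↥(K j)) (v : ↥(W j.succ)), ((ρ h v : ↥(W j.succ)) : V) = (h : V ≃ₗ[ZMod p] V) (v : V)) →
    (ρ.range : Set (↥(W j.succ) ≃ₗ[ZMod p] ↥(W j.succ))) =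
        {f : ↥(W j.succ) ≃ₗ[ZMod p] ↥(W j.succ) | LinearMap.det (f : ↥(W j.succ) →ₗ[ZMod p] ↥(W j.succ)) = 1} ∨
      ∃ B : LinearMap.BilinForm (ZMod p) ↥(W j.succ), B.IsAlt ∧ B.Nondegenerate ∧
        (ρ.range : Set (↥(W j.succ) ≃ₗ[ZMod p] ↥(W j.succ))) =
          {f : ↥(W j.succ) ≃ₗ[ZMod p] ↥(W j.succ) | ∀ x y, B (f x) (f y) = B x y}

theorem compGroup_sup (hH : TGroup H) : ⨆ q : Comp H, compGroup H q = H := by
  refine le_antisymm (iSup_le fun q => compGroup_le q) ?_
  refine hH.gen.trans ((Subgroup.closure_le _).2 ?_)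
  rintro _ ⟨φ, c, hφ, hc, hp, rfl⟩
  exact Subgroup.mem_iSup_of_mem (Quot.mk _ (⟨(φ, c), hφ, hc, hp⟩ : Tr H))
    (Subgroup.subset_closure ⟨_, rfl, rfl⟩)

theorem exists_decomp (hp2 : p ≠ 2) (hH : TGroup H) : Nonempty (Decomp H) := by
  classical
  rcases isEmpty_or_nonempty (Comp H) with hE | hE
  · have hbot : H = ⊥ := by rw [← compGroup_sup hH, iSup_of_empty]
    subst hbot
    let W : Fin (1 + 1) → Submodule (ZMod p) V := ![⊤, ⊥]
    refine ⟨⟨1, le_rfl, W, fun _ => ⊥, ?_, fun _ => le_rfl, fun _ => inferInstance, iSup_const, ?_, ?_, ?_, ?_⟩⟩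
    · refine DirectSum.isInternal_submodule_of_iSupIndep_of_iSup_eq_top (iSupIndep_def.2 fun i => ?_)
        (top_le_iff.1 (le_iSup W 0))
      fin_cases i
      · refine disjoint_iff.2 (le_bot_iff.1 (inf_le_right.trans (iSup₂_le fun j hj => ?_)))
        fin_cases j
        · exact absurd rfl hj
        · exact le_rfl
      · exact disjoint_bot_left
    · intro j h hh i _ v _
      rw [Subgroup.mem_bot.1 hh]
      rfl
    · intro j h hh x hx
      rw [Subgroup.mem_bot.1 hh]
      exact hx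
    · intro j j' hne
      exact absurd (Subsingleton.elim j j') hne
    · intro j ρ hρ
      left
      have hsub : Subsingleton ↥(W j.succ) := by
        fin_cases j
        show Subsingleton ↥(⊥ : Submodule (ZMod p) V)
        infer_instance
      ext f
      simp only [SetLike.mem_coe, Set.mem_setOf_eq]
      refine ⟨fun _ => ?_, fun _ => ⟨1, LinearEquiv.ext fun v => Subsingleton.elim _ _⟩⟩
      rw [show (f : ↥(W j.succ) →ₗ[ZMod p] ↥(W j.succ)) = LinearMap.id from
        LinearMap.ext fun v => Subsingleton.elim _ _, LinearMap.det_id]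
  haveI : Fintype (Comp H) := Fintype.ofFinite _
  let e := (Fintype.equivFin (Comp H)).symm
  have hP : ∀ q : Comp H, Nonempty (Piece (compGroup H q)) := compGroup_piece hp2 hH
  let P := fun q => (hP q).some
  let W : Fin (Fintype.card (Comp H) + 1) → Submodule (ZMod p) V :=
    Fin.cases (⨅ q, LinearMap.ker (P q).π) fun j => (P (e j)).U
  have hπfix : ∀ q, ∀ x, (P q).π ((P q).π x) = (P q).π x := fun q x => (P q).fix _ ((P q).range_le x)
  have hsep : ∀ q q', q ≠ q' → ∀ u ∈ (P q).U, (P q').π u = 0 := fun q q' hne u hu =>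
    piece_sep hH hne (P q) (P q') hu
  let S : V →ₗ[ZMod p] V := ∑ q, (P q).π
  have hSfix : ∀ q, ∀ u ∈ (P q).U, S u = u := fun q u hu => by
    rw [LinearMap.sum_apply, Finset.sum_eq_single q (fun q' _ hne => hsep q q' hne.symm u hu)
      (fun h => absurd (Finset.mem_univ q) h), (P q).fix u hu]
  have hS : ∀ x q, (P q).π (S x) = (P q).π x := fun x q => by
    rw [LinearMap.sum_apply, map_sum, Finset.sum_eq_single q
      (fun q' _ hne => hsep q' q hne _ ((P q').range_le x))
      (fun h => absurd (Finset.mem_univ q) h), hπfix]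
  have hW0 : ∀ x, x ∈ W 0 ↔ ∀ q, (P q).π x = 0 := fun x => by
    simp [W, Submodule.mem_iInf]
  have hW0S : ∀ x, x - S x ∈ W 0 := fun x => (hW0 _).2 fun q => by rw [map_sub, hS, sub_self]
  refine ⟨⟨Fintype.card (Comp H), Fintype.card_pos, W, fun j => compGroup H (e j), ?_,
    fun j => compGroup_le _, fun j => Subgroup.normal_subgroupOf_of_le_normalizer
      (compGroup_normal hH _), ?_, ?_, ?_, ?_, fun j => (P (e j)).shape⟩⟩
  · refine DirectSum.isInternal_submodule_of_iSupIndep_of_iSup_eq_top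
      (iSupIndep_def.2 fun i => ?_) (eq_top_iff.2 fun x _ => ?_)
    · rw [Submodule.disjoint_def]
      intro x hx hx'
      induction i using Fin.cases with
      | zero =>
        have hS0 : S x = 0 := by
          rw [LinearMap.sum_apply]
          exact Finset.sum_eq_zero fun q _ => (hW0 x).1 hx q
        have hle : (⨆ (j : Fin (Fintype.card (Comp H) + 1)) (_ : j ≠ 0), W j) ≤
            LinearMap.eqLocus S LinearMap.id := by
          refine iSup₂_le fun j hj => ?_
          induction j using Fin.cases with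
          | zero => exact absurd rfl hj
          | succ j => exact fun u hu => hSfix (e j) u hu
        have h2 : S x = x := hle hx'
        rw [← h2, hS0]
      | succ i =>
        have hle : (⨆ (j : Fin (Fintype.card (Comp H) + 1)) (_ : j ≠ i.succ), W j) ≤
            LinearMap.ker (P (e i)).π := by
          refine iSup₂_le fun j hj => ?_
          induction j using Fin.cases with
          | zero => exact fun u hu => (hW0 u).1 hu (e i)
          | succ j => exact fun u hu => hsep (e j) (e i) (fun h => hj (by rw [e.injective h])) u hu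
        rw [← (P (e i)).fix x hx]
        exact hle hx'
    · rw [← sub_add_cancel x (S x)]
      refine Submodule.add_mem _ (Submodule.mem_iSup_of_mem 0 (hW0S x)) ?_
      rw [LinearMap.sum_apply]
      refine Submodule.sum_mem _ fun q _ => Submodule.mem_iSup_of_mem (e.symm q).succ ?_
      show (P q).π x ∈ (P (e (e.symm q))).U
      rw [e.apply_symm_apply]
      exact (P q).range_le x
  · exact (e.iSup_comp (g := fun q => compGroup H q)).trans (compGroup_sup hH)
  · intro j h hh i hi v hv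
    refine (P (e j)).fix_ker (compGroup_conn hH _).toTGroup hh ?_
    induction i using Fin.cases with
    | zero => exact (hW0 v).1 hv (e j)
    | succ i => exact hsep (e i) (e j) (fun h => hi (by rw [e.injective h])) v hv
  · exact fun j => (P (e j)).inv (compGroup_conn hH _).toTGroup
  · intro j j' hne a ha b hb
    have hne' : e j ≠ e j' := fun h => hne (e.injective h)
    have hcen : compGroup H (e j) ≤ Subgroup.centralizer (compGroup H (e j') : Set (V ≃ₗ[ZMod p] V)) := by
      rw [Subgroup.le_centralizer_iff]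
      rw [compGroup, compGroup, Subgroup.centralizer_closure, Subgroup.closure_le]
      rintro _ ⟨y, hy, rfl⟩
      rw [SetLike.mem_coe, Subgroup.mem_centralizer_iff]
      rintro _ ⟨x, hx, rfl⟩
      exact (commute_of_ne (x := x) (y := y) (fun h => hne' (hx.symm.trans (h.trans hy)))).eq
    exact (Subgroup.mem_centralizer_iff.1 (hcen ha) b hb).symm

end CfsgLib.McLaughlin
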