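import Cfsg.Agent.Lib.Recog.McLaughlin.Basic

/-!
# Growing a special linear subgroup inside a transvection group
-/

set_option autoImplicit false

namespace CfsgLib.McLaughlin

open Module

variable {p : ℕ} [Fact p.Prime] {V : Type*} [AddCommGroup V] [Module (ZMod p) V]
variable {G : Subgroup (V ≃ₗ[ZMod p] V)}

/-- A basis of a subspace with dual functionals, with all elementary transvections in `G`. -/
structure ElemData (G : Subgroup (V ≃ₗ[ZMod p] V)) (n : ℕ) where
  b : Fin n → V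
  f : Fin n → Dual (ZMod p) V
  dual : ∀ i j, f i (b j) = if i = j then 1 else 0
  elem : ∀ i j, i ≠ j → Pair G (f j) (b i)

namespace ElemData

variable {n : ℕ} (D : ElemData G n)

/-- Projection to the span of the basis. -/
def proj (x : V) : V := ∑ i, D.f i x • D.b i

/-- Projection of a functional to the span of the dual basis. -/
def projDual (χ : Dual (ZMod p) V) : Dual (ZMod p) V := ∑ i, χ (D.b i) • D.f i

theorem f_proj (k : Fin n) (x : V) : D.f k (D.proj x) = D.f k x := by
  simp [proj, map_sum, D.dual, mul_comm]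

theorem f_sub_proj (k : Fin n) (x : V) : D.f k (x - D.proj x) = 0 := by
  rw [map_sub, f_proj, sub_self]

theorem projDual_b (χ : Dual (ZMod p) V) (k : Fin n) : D.projDual χ (D.b k) = χ (D.b k) := by
  simp [projDual, LinearMap.sum_apply, D.dual]

theorem projDual_apply (χ : Dual (ZMod p) V) (x : V) : D.projDual χ x = χ (D.proj x) := by
  simp [projDual, proj, map_sum, LinearMap.sum_apply, mul_comm]

theorem pair_basis_axis (k : Fin n) (u : V) (h : D.f k u = 0) : Pair G (D.f k) (D.proj u) := by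
  refine Submodule.sum_mem (centres G (D.f k)) fun i _ => ?_
  rcases eq_or_ne i k with rfl | hik
  · rw [h, zero_smul]; exact pair_zero_right _
  · exact (D.elem i k hik).smul_right _

theorem pair_basis_centre (k : Fin n) (χ : Dual (ZMod p) V) (h : χ (D.b k) = 0) :
    Pair G (D.projDual χ) (D.b k) := by
  refine Submodule.sum_mem (axes G (D.b k)) fun i _ => ?_
  rcases eq_or_ne i k with rfl | hik
  · rw [h, zero_smul]; exact pair_zero_left _
  · exact (D.elem k i hik.symm).smul_left _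

theorem proj_b (k : Fin n) : D.proj (D.b k) = D.b k := by
  simp [proj, D.dual]

theorem proj_proj (x : V) : D.proj (D.proj x) = D.proj x := by
  show ∑ i, D.f i (D.proj x) • D.b i = ∑ i, D.f i x • D.b i
  simp [f_proj]

/-- All transvections of the special linear group of the span are present. -/
theorem pair_full (χ : Dual (ZMod p) V) (e : V) (h : χ (D.proj e) = 0)
    (hz : ∃ k, χ (D.b k) = 0 ∨ D.f k e = 0) : Pair G (D.projDual χ) (D.proj e) := by
  obtain ⟨k, hk⟩ := hz
  have h1 : D.projDual χ (D.proj e) = 0 := by rw [D.projDual_apply, D.proj_proj, h]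
  have hbf : D.f k (D.b k) = 1 := by simp [D.dual]
  rcases hk with hk | hk
  · have hu : D.f k (D.proj e - D.f k e • D.b k) = 0 := by simp [f_proj, hbf]
    have hp1 := D.pair_basis_axis k _ hu
    rw [show D.proj (D.proj e - D.f k e • D.b k) = D.proj e - D.f k e • D.b k by
      simp [proj, map_sum, D.dual, sub_smul, Finset.sum_sub_distrib, mul_comm]] at hp1
    have hp2 := D.pair_basis_centre k χ hk
    have hp3 := hp1.rule hp2 (by rw [hbf]; exact one_ne_zero)
      (by rw [map_sub, h1, map_smul, D.projDual_b, hk, smul_zero, sub_zero])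
    simpa using hp3.add_right (hp2.smul_right (D.f k e))
  · have hp1 := D.pair_basis_axis k e hk
    have hp2 := D.pair_basis_centre k (χ - χ (D.b k) • D.f k) (by simp [hbf])
    have e2 : D.projDual (χ - χ (D.b k) • D.f k) = D.projDual χ - χ (D.b k) • D.f k :=
      LinearMap.ext fun x => by simp [D.projDual_apply, D.f_proj]
    rw [e2] at hp2
    have hp3 := hp1.rule hp2 (by rw [hbf]; exact one_ne_zero)
      (by simp [h1, f_proj, hk])
    simpa using hp3.add_left (hp1.smul_left (χ (D.b k)))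

/-- `w` is a common centre of all the dual functionals, outside the span. -/
def OutCentre (w : V) : Prop := ∀ i, D.f i w = 0 ∧ Pair G (D.f i) w

/-- `ω` is a common axis of all the basis vectors, killing the span. -/
def OutAxis (ω : Dual (ZMod p) V) : Prop := ∀ i, ω (D.b i) = 0 ∧ Pair G ω (D.b i)

theorem exists_third (hn : 3 ≤ n) (k : Fin n) : ∃ i j, i ≠ j ∧ i ≠ k ∧ j ≠ k := by
  classical
  have h : 1 < (Finset.univ.erase k).card := by simp; omega
  obtain ⟨i, hi, j, hj, hij⟩ := Finset.one_lt_card.1 h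
  exact ⟨i, j, hij, Finset.ne_of_mem_erase hi, Finset.ne_of_mem_erase hj⟩

/-- A transvection moving the span has its outer centre part among `OutCentre`. -/
theorem outCentre_of_pair (hn : 3 ≤ n) {χ : Dual (ZMod p) V} {e : V} (h : Pair G χ e) {k : Fin n}
    (hk : χ (D.b k) ≠ 0) : D.OutCentre (e - D.proj e) := by
  classical
  obtain ⟨i, j, hij, hik, hjk⟩ := exists_third hn k
  -- a functional killing `b k` and `e`
  obtain ⟨ψ, m, hψk, hψe, hψm, hψd⟩ : ∃ (ψ : Dual (ZMod p) V) (m : Fin n), ψ (D.b k) = 0 ∧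
      ψ e = 0 ∧ ψ (D.b m) ≠ 0 ∧ D.projDual ψ = ψ := by
    have hP : ∀ l, D.projDual (D.f l) = D.f l := fun l => by simp [projDual, D.dual]
    rcases eq_or_ne (D.f i e) 0 with hi | hi
    · exact ⟨D.f i, i, by simp [D.dual, hik], hi, by simp [D.dual], hP i⟩
    · refine ⟨D.f j e • D.f i - D.f i e • D.f j, j, by simp [D.dual, hik, hjk], ?_, ?_, ?_⟩
      · simp [mul_comm]
      · simp [D.dual, hij, hi]
      · have e1 : ∀ a c : Dual (ZMod p) V, ∀ s t : ZMod p,
            D.projDual (s • a - t • c) = s • D.projDual a - t • D.projDual c := fun a c s t =>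
          LinearMap.ext fun x => by simp [D.projDual_apply]
        rw [e1, hP, hP]
  have hbk := D.pair_basis_centre k ψ hψk
  rw [hψd] at hbk
  have h1 : Pair G ψ e := h.rule hbk hk hψe
  have hψp : ψ (D.proj e) = 0 := by rw [← D.projDual_apply, hψd, hψe]
  have h2 := D.pair_full ψ e hψp ⟨k, Or.inl hψk⟩
  rw [hψd] at h2
  have hw := h1.sub_right h2
  set w := e - D.proj e with hwd
  have hw0 : ∀ l, D.f l w = 0 := fun l => D.f_sub_proj l e
  have hne : ∀ l, l ≠ m → Pair G (D.f l) w := fun l hl =>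
    hw.rule (D.elem m l hl.symm) hψm (hw0 l)
  intro l
  refine ⟨hw0 l, ?_⟩
  by_cases hl : l = m
  · obtain ⟨i', _, _, hi', _⟩ := exists_third hn m
    rw [hl]
    exact (hne i' hi').rule (D.elem i' m hi') (by simp [D.dual]) (hw0 m)
  · exact hne l hl

/-- A transvection with centre off the outer part has its outer axis part among `OutAxis`. -/
theorem outAxis_of_pair (hn : 3 ≤ n) {χ : Dual (ZMod p) V} {e : V} (h : Pair G χ e) {k : Fin n}
    (hk : D.f k e ≠ 0) : D.OutAxis (χ - D.projDual χ) := by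
  classical
  obtain ⟨i, j, hij, hik, hjk⟩ := exists_third hn k
  obtain ⟨u, m, huk, hχu, hum, hud⟩ : ∃ (u : V) (m : Fin n), D.f k u = 0 ∧
      χ u = 0 ∧ D.f m u ≠ 0 ∧ D.proj u = u := by
    rcases eq_or_ne (χ (D.b i)) 0 with hi | hi
    · exact ⟨D.b i, i, by simp [D.dual, hik.symm], hi, by simp [D.dual], D.proj_b i⟩
    · refine ⟨χ (D.b j) • D.b i - χ (D.b i) • D.b j, j, by simp [D.dual, hik.symm, hjk.symm], ?_, ?_, ?_⟩
      · simp [mul_comm]
      · simp [D.dual, hij.symm, hi]
      · have e1 : ∀ a c : V, ∀ s t : ZMod p,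
            D.proj (s • a - t • c) = s • D.proj a - t • D.proj c := fun a c s t => by
          simp [proj, sub_smul, mul_smul, Finset.sum_sub_distrib, Finset.smul_sum]
        rw [e1, D.proj_b, D.proj_b]
  have hfu := D.pair_basis_axis k u huk
  rw [hud] at hfu
  have h1 : Pair G χ u := hfu.rule h hk hχu
  have h2 := D.pair_full χ u (by rw [hud, hχu]) ⟨k, Or.inr huk⟩
  rw [hud] at h2
  have hw := h1.sub_left h2
  set ω := χ - D.projDual χ with hwd
  have hw0 : ∀ l, ω (D.b l) = 0 := fun l => by simp [hwd, D.projDual_b]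
  have hne : ∀ l, l ≠ m → Pair G ω (D.b l) := fun l hl =>
    (D.elem l m hl).rule hw hum (hw0 l)
  intro l
  refine ⟨hw0 l, ?_⟩
  by_cases hl : l = m
  · obtain ⟨i', _, _, hi', _⟩ := exists_third hn m
    rw [hl]
    exact (D.elem m i' hi'.symm).rule (hne i' hi') (by simp [D.dual]) (hw0 m)
  · exact hne l hl

/-- One more dimension. -/
theorem extend {w : V} {ω : Dual (ZMod p) V} (hw : D.OutCentre w) (hω : D.OutAxis ω)
    (h1 : ω w = 1) : Nonempty (ElemData G (n + 1)) := by
  refine ⟨⟨Fin.cons w D.b, Fin.cons ω D.f, fun i j => ?_, fun i j hij => ?_⟩⟩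
  · induction i using Fin.cases <;> induction j using Fin.cases <;>
      simp [h1, D.dual, (hw _).1, (hω _).1, Fin.succ_ne_zero, (Fin.succ_ne_zero _).symm]
  · induction i using Fin.cases with
    | zero =>
      induction j using Fin.cases with
      | zero => exact absurd rfl hij
      | succ j => simpa using (hw j).2
    | succ i =>
      induction j using Fin.cases with
      | zero => simpa using (hω i).2
      | succ j => simpa using D.elem i j fun e => hij (by rw [e])

theorem le_finrank [Finite V] (D : ElemData G n) : n ≤ Module.finrank (ZMod p) V := by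
  have hli : LinearIndependent (ZMod p) D.b := by
    refine Fintype.linearIndependent_iff.2 fun g hg k => ?_
    have h := congrArg (D.f k) hg
    simpa [map_sum, D.dual] using h
  simpa using hli.fintype_card_le_finrank

/-- The data exhausts all transvections of `G`. -/
def Exhausts : Prop :=
  ∀ χ e, χ ≠ 0 → e ≠ 0 → Pair G χ e →
    D.proj e = e ∧ D.projDual χ = χ

theorem exhausts_or_extend [Finite V] (hp2 : p ≠ 2) (hG : Conn G) (hn : 3 ≤ n) :
    D.Exhausts ∨ Nonempty (ElemData G (n + 1)) := by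
  classical
  by_cases hex : ∃ w ω, D.OutCentre w ∧ D.OutAxis ω ∧ ω w ≠ 0
  · obtain ⟨w, ω, hw, hω, hne⟩ := hex
    refine Or.inr (D.extend (w := (ω w)⁻¹ • w) (fun i => ⟨by simp [(hw i).1],
      (hw i).2.smul_right _⟩) hω (by simp [hne]))
  push Not at hex
  refine Or.inl ?_
  let k0 : Fin n := ⟨0, by omega⟩
  let k1 : Fin n := ⟨1, by omega⟩
  have hk01 : k0 ≠ k1 := by simp [k0, k1]
  have hb0 : D.b k0 ≠ 0 := fun e => by simpa [e] using D.dual k0 k0
  have hb1 : D.b k1 ≠ 0 := fun e => by simpa [e] using D.dual k1 k1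
  have hf0 : D.f k0 ≠ 0 := fun e => by simpa [e] using D.dual k0 k0
  have hf1 : D.f k1 ≠ 0 := fun e => by simpa [e] using D.dual k1 k1
  let W0 : Submodule (ZMod p) V := ⨅ i, LinearMap.ker (D.f i) ⊓ centres G (D.f i)
  have hW0 : ∀ w, w ∈ W0 ↔ D.OutCentre w := fun w => by
    simp only [W0, Submodule.mem_iInf, Submodule.mem_inf, LinearMap.mem_ker]
    rfl
  let Y : Submodule (ZMod p) V := Submodule.span (ZMod p) (Set.range D.b) ⊔ W0
  have hbY : ∀ i, D.b i ∈ Y := fun i =>
    Submodule.mem_sup_left (Submodule.subset_span (Set.mem_range_self i))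
  have hprojY : ∀ x, D.proj x ∈ Y := fun x =>
    Submodule.sum_mem _ fun i _ => Submodule.smul_mem _ _ (hbY i)
  have hzero : ∀ χ : Dual (ZMod p) V, (∀ i, χ (D.b i) = 0) → D.projDual χ = 0 := fun χ h => by
    simp [projDual, h]
  have hYinv : Inv G Y := by
    refine hG.inv_of_pairs fun χ e _ _ h => ?_
    by_cases hk : ∃ k, χ (D.b k) ≠ 0
    · obtain ⟨k, hk⟩ := hk
      left
      have h1 : e - D.proj e ∈ Y :=
        Submodule.mem_sup_right ((hW0 _).2 (D.outCentre_of_pair hn h hk))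
      simpa using Y.add_mem h1 (hprojY e)
    push Not at hk
    by_cases hw : ∀ w ∈ W0, χ w = 0
    · right
      intro x hx
      obtain ⟨u, hu, w, hw', rfl⟩ := Submodule.mem_sup.1 hx
      rw [map_add, hw w hw', add_zero]
      exact (Submodule.span_le.2 (show Set.range D.b ⊆ ↑(LinearMap.ker χ) by
        rintro _ ⟨i, rfl⟩; exact hk i)) hu
    push Not at hw
    obtain ⟨w, hw', hχw⟩ := hw
    left
    have hfe : ∀ i, D.f i e = 0 := by
      by_contra hc
      push Not at hc
      obtain ⟨i, hi⟩ := hc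
      have := D.outAxis_of_pair hn h hi
      rw [hzero χ hk, sub_zero] at this
      exact hχw (hex w χ ((hW0 w).1 hw') this)
    exact Submodule.mem_sup_right ((hW0 e).2 fun i =>
      ⟨hfe i, h.rule ((hW0 w).1 hw' i).2 hχw (hfe i)⟩)
  have hcY : ∀ χ e, χ ≠ 0 → e ≠ 0 → Pair G χ e → e ∈ Y := by
    rcases hG.centres_or_axes hp2 hYinv with h | h
    · exact h
    · have h1 := h (D.f k1) (D.b k0) hf1 hb0 (D.elem k0 k1 hk01) (D.b k1) (hbY k1)
      simp [D.dual] at h1
  have hΦ0 : ∀ ω, D.OutAxis ω → ω = 0 := by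
    intro ω hω
    have hk : ∀ x ∈ Y, ω x = 0 := by
      intro x hx
      obtain ⟨u, hu, w, hw', rfl⟩ := Submodule.mem_sup.1 hx
      rw [map_add, hex w ω ((hW0 w).1 hw') hω, add_zero]
      exact (Submodule.span_le.2 (show Set.range D.b ⊆ ↑(LinearMap.ker ω) by
        rintro _ ⟨i, rfl⟩; exact (hω i).1)) hu
    exact (hG.forbidden hp2 hYinv (hω k0).2 (hbY k0) hk).resolve_right hb0
  let W : Submodule (ZMod p) V := ⨅ i, LinearMap.ker (D.f i)
  have hW : ∀ x, x ∈ W ↔ ∀ i, D.f i x = 0 := fun x => by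
    simp [W, Submodule.mem_iInf]
  have hWinv : Inv G W := by
    refine hG.inv_of_pairs fun χ e _ _ h => ?_
    by_cases hc : ∀ i, D.f i e = 0
    · exact Or.inl ((hW e).2 hc)
    push Not at hc
    obtain ⟨i, hi⟩ := hc
    right
    intro x hx
    have h1 := hΦ0 _ (D.outAxis_of_pair hn h hi)
    rw [sub_eq_zero] at h1
    rw [h1, D.projDual_apply, show D.proj x = 0 by simp [proj, (hW x).1 hx], map_zero]
  have hWax : ∀ χ e, χ ≠ 0 → e ≠ 0 → Pair G χ e → ∀ x ∈ W, χ x = 0 := by
    rcases hG.centres_or_axes hp2 hWinv with h | h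
    · have h1 := (hW _).1 (h (D.f k1) (D.b k0) hf1 hb0 (D.elem k0 k1 hk01)) k0
      simp [D.dual] at h1
    · exact h
  have hW0z : ∀ w ∈ W0, w = 0 := by
    intro w hw
    have h1 := (hW0 w).1 hw
    refine ((hG.forbidden hp2 hWinv (h1 k0).2 ((hW w).2 fun i => (h1 i).1) fun x hx =>
      (hW x).1 hx k0).resolve_left hf0)
  intro χ e hχ he h
  obtain ⟨u, hu, w, hw, hue⟩ := Submodule.mem_sup.1 (hcY χ e hχ he h)
  rw [hW0z w hw, add_zero] at hue
  subst hue
  obtain ⟨g, rfl⟩ := (Submodule.mem_span_range_iff_exists_fun (ZMod p)).1 hu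
  refine ⟨by simp [proj, map_sum, D.dual], LinearMap.ext fun x => ?_⟩
  have h1 := hWax χ _ hχ he h (x - D.proj x) ((hW _).2 fun i => D.f_sub_proj i x)
  rw [map_sub, sub_eq_zero] at h1
  rw [D.projDual_apply, h1]

/-- Maximal data exhausts. -/
theorem exists_exhausts [Finite V] (hp2 : p ≠ 2) (hG : Conn G) {n : ℕ} (D : ElemData G n)
    (hn : 3 ≤ n) : ∃ m, 3 ≤ m ∧ ∃ D' : ElemData G m, D'.Exhausts := by
  suffices key : ∀ r n, Module.finrank (ZMod p) V ≤ n + r → 3 ≤ n → ElemData G n →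
      ∃ m, 3 ≤ m ∧ ∃ D' : ElemData G m, D'.Exhausts from key _ n (Nat.le_add_left _ _) hn D
  intro r
  induction r with
  | zero =>
    intro n hr hn D
    rcases D.exhausts_or_extend hp2 hG hn with h | ⟨⟨D'⟩⟩
    · exact ⟨n, hn, D, h⟩
    · have := D'.le_finrank
      omega
  | succ r ih =>
    intro n hr hn D
    rcases D.exhausts_or_extend hp2 hG hn with h | ⟨⟨D'⟩⟩
    · exact ⟨n, hn, D, h⟩
    · exact ih (n + 1) (by omega) (by omega) D'

end ElemData

/-- A centre with two independent axes starts the data. -/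
theorem exists_elemData_three [Finite V] (hp2 : p ≠ 2) (hG : Conn G) {φ m : Dual (ZMod p) V} {c : V}
    (hc : c ≠ 0) (hφ : Pair G φ c) (hm : Pair G m c) (hφ0 : φ ≠ 0)
    (hind : ∀ a : ZMod p, m ≠ a • φ) : Nonempty (ElemData G 3) := by
  obtain ⟨ψ₀, d, hψ₀, hφd, hψ₀c⟩ := hG.exists_opposite hp2 hφ hφ0 hc
  set m' := m - (m d * (φ d)⁻¹) • φ with hm'
  have hm'c : Pair G m' c := hm.sub_left (hφ.smul_left _)
  have hm'd : m' d = 0 := by simp [hm', hφd]
  have hm'0 : m' ≠ 0 := fun e => hind _ (sub_eq_zero.1 e)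
  have hm'd' : Pair G m' d := hψ₀.rule hm'c hψ₀c hm'd
  obtain ⟨χ, f, hχ, hm'f, hχc⟩ := hG.exists_opposite hp2 hm'c hm'0 hc
  set φ' := φ - (φ f * (m' f)⁻¹) • m' with hφ'
  have hφ'c : Pair G φ' c := hφ.sub_left (hm'c.smul_left _)
  have hφ'f : φ' f = 0 := by simp [hφ', hm'f]
  have hφ'd : φ' d = φ d := by simp [hφ', hm'd]
  have hφ'f' : Pair G φ' f := hχ.rule hφ'c hχc hφ'f
  obtain ⟨ψ, hψd, hψc, hψf, hψf'⟩ : ∃ ψ, Pair G ψ d ∧ ψ c ≠ 0 ∧ ψ f = 0 ∧ Pair G ψ f := by
    rcases eq_or_ne (χ d) 0 with h0 | h0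
    · exact ⟨χ, hm'd'.rule hχ hm'f h0, hχc, hχ.1, hχ⟩
    · have h1 : Pair G (ψ₀ - (ψ₀ f * (m' f)⁻¹) • m') d := hψ₀.sub_left (hm'd'.smul_left _)
      have h2 : (ψ₀ - (ψ₀ f * (m' f)⁻¹) • m') f = 0 := by simp [hm'f]
      refine ⟨_, h1, ?_, h2, hχ.rule h1 h0 h2⟩
      simpa [hm'c.1] using hψ₀c
  refine ⟨⟨![c, d, f], ![(ψ c)⁻¹ • ψ, (φ d)⁻¹ • φ', (m' f)⁻¹ • m'], fun i j => ?_,
    fun i j hij => ?_⟩⟩
  · fin_cases i <;> fin_cases j <;>
      simp [hψc, hψd.1, hψf, hφd, hφ'd, hφ'c.1, hφ'f, hm'f, hm'd, hm'c.1]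
  · fin_cases i <;> fin_cases j <;>
      first | exact absurd rfl hij | exact hφ'c.smul_left _ | exact hm'c.smul_left _ |
        exact hψd.smul_left _ | exact hm'd'.smul_left _ | exact hψf'.smul_left _ |
        exact hφ'f'.smul_left _

end CfsgLib.McLaughlin
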