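import Cfsg.Agent.Lib.Recog.McLaughlin.Basic

/-!
# Growing a symplectic subgroup inside a transvection group
-/

set_option autoImplicit false

namespace CfsgLib.McLaughlin

open Module

variable {p : ℕ} [Fact p.Prime] {V : Type*} [AddCommGroup V] [Module (ZMod p) V]
variable {G : Subgroup (V ≃ₗ[ZMod p] V)}

/-- Every centre has only one axis. -/
def OneAxis (G : Subgroup (V ≃ₗ[ZMod p] V)) : Prop :=
  ∀ (φ ψ : Dual (ZMod p) V) (c : V), c ≠ 0 → φ ≠ 0 → Pair G φ c → Pair G ψ c → ∃ a : ZMod p, ψ = a • φ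

theorem OneAxis.symm (h1 : OneAxis G) {φ ψ : Dual (ZMod p) V} {c d : V} (h : Pair G φ c)
    (h' : Pair G ψ d) (hc : c ≠ 0) (hψ : ψ ≠ 0) (hne : φ d ≠ 0) : ψ c ≠ 0 := by
  intro h0
  have hφ : φ ≠ 0 := fun e => hne (by simp [e])
  obtain ⟨a, ha⟩ := h1 φ ψ c hc hφ h (h.rule h' hne h0)
  have h2 := h'.1
  rw [ha, LinearMap.smul_apply, smul_eq_mul, mul_eq_zero, or_iff_left hne] at h2
  exact hψ (by rw [ha, h2, zero_smul])

/-- The line through two opposite transvections. -/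
theorem Pair.line {φ ψ : Dual (ZMod p) V} {c d : V} (h : Pair G φ c) (h' : Pair G ψ d)
    (hs : ψ c = -φ d) (hne : φ d ≠ 0) (a b : ZMod p) :
    Pair G (a • φ + b • ψ) (a • c + b • d) := by
  rcases eq_or_ne b 0 with rfl | hb
  · simpa using (h.smul_left a).smul_right a
  have h3 := (h.smul_left (a / b / φ d)).conj_pair h'
  have h4 := (h3.smul_left b).smul_right b
  convert h4 using 1
  · rw [hs, smul_sub, smul_smul, smul_smul, sub_eq_add_neg, ← neg_smul, add_comm]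
    congr 2
    field_simp
  · rw [LinearMap.smul_apply, smul_eq_mul, div_mul_cancel₀ _ hne, smul_add, smul_smul,
      mul_div_cancel₀ _ hb, add_comm]

/-- A subspace with a linear choice of axes. -/
structure SympData (G : Subgroup (V ≃ₗ[ZMod p] V)) where
  U : Submodule (ZMod p) V
  Φ : V →ₗ[ZMod p] Dual (ZMod p) V
  alt : ∀ u ∈ U, Φ u u = 0
  pair : ∀ u ∈ U, (∃ v ∈ U, Φ u v ≠ 0) → Pair G (Φ u) u
  nondeg : ∃ u ∈ U, ∃ v ∈ U, Φ u v ≠ 0

namespace SympData

variable (D : SympData G)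

theorem skew {u v : V} (hu : u ∈ D.U) (hv : v ∈ D.U) : D.Φ v u = -D.Φ u v := by
  have h := D.alt _ (D.U.add_mem hu hv)
  simp only [map_add, LinearMap.add_apply, D.alt u hu, D.alt v hv] at h
  linear_combination h

/-- Outside the radical. -/
def NR (u : V) : Prop := u ∈ D.U ∧ ∃ v ∈ D.U, D.Φ u v ≠ 0

theorem NR.pair {D : SympData G} {u : V} (h : D.NR u) : Pair G (D.Φ u) u := D.pair u h.1 h.2

theorem NR.ne_zero {D : SympData G} {u : V} (h : D.NR u) : D.Φ u ≠ 0 := by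
  obtain ⟨v, -, hv⟩ := h.2
  exact fun e => hv (by simp [e])

theorem NR.vec_ne_zero {D : SympData G} {u : V} (h : D.NR u) : u ≠ 0 := by
  obtain ⟨v, -, hv⟩ := h.2
  exact fun e => hv (by simp [e])

theorem nr_sub {u v : V} (hu : u ∈ D.U) (hu' : ¬ D.NR u) (hv : D.NR v) : D.NR (u + v) := by
  obtain ⟨w, hw, hvw⟩ := hv.2
  refine ⟨D.U.add_mem hu hv.1, w, hw, ?_⟩
  have h0 : D.Φ u w = 0 := by
    by_contra h
    exact hu' ⟨hu, w, hw, h⟩
  simp [h0, hvw]

/-- A linear functional vanishing off the radical vanishes. -/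
theorem eq_zero_of_nr {h : Dual (ZMod p) V} (hh : ∀ u, D.NR u → h u = 0) {u : V} (hu : u ∈ D.U) :
    h u = 0 := by
  by_cases hn : D.NR u
  · exact hh u hn
  obtain ⟨a, ha, b, hb, hab⟩ := D.nondeg
  have h1 := hh _ (D.nr_sub hu hn ⟨ha, b, hb, hab⟩)
  rwa [map_add, hh a ⟨ha, b, hb, hab⟩, add_zero] at h1

theorem exists_avoid_two (hp2 : p ≠ 2) (P Q : ZMod p → Prop) (hP : ∀ s t, P s → P t → s = t)
    (hQ : ∀ s t, Q s → Q t → s = t) : ∃ t, ¬ P t ∧ ¬ Q t := by
  classical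
  by_contra h
  push Not at h
  have h3 : 3 ≤ Fintype.card (ZMod p) := by
    rw [ZMod.card]
    have := (Fact.out : p.Prime).two_le
    omega
  have hsub : (Finset.univ : Finset (ZMod p)) ⊆
      Finset.univ.filter P ∪ Finset.univ.filter Q := fun t _ => by
    by_cases ht : P t
    · simp [ht]
    · simp [h t ht]
  have h1 := (Finset.card_le_card hsub).trans (Finset.card_union_le _ _)
  have h2 : (Finset.univ.filter P).card ≤ 1 :=
    Finset.card_le_one.2 fun a ha b hb => hP a b (by simpa using ha) (by simpa using hb)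
  have h4 : (Finset.univ.filter Q).card ≤ 1 :=
    Finset.card_le_one.2 fun a ha b hb => hQ a b (by simpa using ha) (by simpa using hb)
  rw [Finset.card_univ] at h1
  omega

/-- Two functionals are nonzero at a common element off the radical. -/
theorem exists_nr_both (hp2 : p ≠ 2) {α β : Dual (ZMod p) V} (hα : ∃ u ∈ D.U, α u ≠ 0)
    (hβ : ∃ u ∈ D.U, β u ≠ 0) : ∃ z, D.NR z ∧ α z ≠ 0 ∧ β z ≠ 0 := by
  obtain ⟨x, hx, hx1, hx2⟩ : ∃ x ∈ D.U, α x ≠ 0 ∧ β x ≠ 0 := by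
    obtain ⟨a, ha, hαa⟩ := hα
    obtain ⟨b, hb, hβb⟩ := hβ
    by_cases h1 : β a = 0
    · by_cases h2 : α b = 0
      · exact ⟨a + b, D.U.add_mem ha hb, by simp [h2, hαa], by simp [h1, hβb]⟩
      · exact ⟨b, hb, h2, hβb⟩
    · exact ⟨a, ha, hαa, h1⟩
  by_cases hn : D.NR x
  · exact ⟨x, hn, hx1, hx2⟩
  obtain ⟨a, ha, b, hb, hab⟩ := D.nondeg
  obtain ⟨k, hk1, hk2⟩ := exists_avoid_two hp2 (fun k => α (k • x + a) = 0)
    (fun k => β (k • x + a) = 0)
    (fun s t hs ht => by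
      simp only [map_add, map_smul, smul_eq_mul] at hs ht
      exact mul_right_cancel₀ hx1 (by linear_combination hs - ht))
    (fun s t hs ht => by
      simp only [map_add, map_smul, smul_eq_mul] at hs ht
      exact mul_right_cancel₀ hx2 (by linear_combination hs - ht))
  refine ⟨k • x + a, ⟨D.U.add_mem (D.U.smul_mem _ hx) ha, b, hb, ?_⟩, hk1, hk2⟩
  have h0 : D.Φ x b = 0 := by
    by_contra h
    exact hn ⟨hx, b, hb, h⟩
  simp [h0, hab]

/-- One more dimension. -/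
theorem extend [Finite V] (hp2 : p ≠ 2) (h1 : OneAxis G) {φ₀ : Dual (ZMod p) V} {e : V}
    (he : e ∉ D.U) (h : Pair G φ₀ e) (hne : ∃ u ∈ D.U, φ₀ u ≠ 0) :
    ∃ D' : SympData G, D.U < D'.U := by
  classical
  obtain ⟨u₁, hu₁, hu₁φ, -⟩ := D.exists_nr_both hp2 hne hne
  have hφ₀ : φ₀ ≠ 0 := fun e' => hu₁φ (by simp [e'])
  have hcross : ∀ u, D.NR u → (φ₀ u = 0 ↔ D.Φ u e = 0) := by
    intro u hu
    constructor
    · intro h0
      by_contra hc
      exact h1.symm hu.pair h hu.vec_ne_zero hφ₀ hc h0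
    · intro h0
      by_contra hc
      exact h1.symm h hu.pair (fun e' => he (e' ▸ D.U.zero_mem)) hu.ne_zero hc h0
  have hu₁e : D.Φ u₁ e ≠ 0 := fun h0 => hu₁φ ((hcross u₁ hu₁).2 h0)
  set r : ZMod p := -(D.Φ u₁ e / φ₀ u₁) with hr
  set φ := r • φ₀ with hφ
  have hφe : Pair G φ e := h.smul_left r
  have hrel : ∀ u ∈ D.U, D.Φ u e = -φ u := by
    intro u hu
    set hl : Dual (ZMod p) V := D.Φ.flip e + φ with hhl
    have hl1 : hl u₁ = 0 := by
      simp [hhl, hφ, hr, div_mul_cancel₀ _ hu₁φ]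
    have hl0 : ∀ z, D.NR z → φ₀ z = 0 → hl z = 0 := fun z hz hz0 => by
      simp [hhl, hφ, hz0, (hcross z hz).1 hz0]
    have hall : ∀ z, D.NR z → hl z = 0 := by
      intro z hz
      set z₂ := φ₀ z • u₁ - φ₀ u₁ • z with hz₂
      have hz2U : z₂ ∈ D.U := D.U.sub_mem (D.U.smul_mem _ hu₁.1) (D.U.smul_mem _ hz.1)
      have hz20 : φ₀ z₂ = 0 := by simp [hz₂, mul_comm]
      suffices hl z₂ = 0 by simpa [hz₂, hl1, hu₁φ] using this
      by_cases hn : D.NR z₂
      · exact hl0 _ hn hz20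
      obtain ⟨v, hv, huv⟩ := hu₁.2
      set y := v - (φ₀ v / φ₀ u₁) • u₁ with hy
      have hy0 : φ₀ y = 0 := by simp [hy, div_mul_cancel₀ _ hu₁φ]
      have hyU : y ∈ D.U := D.U.sub_mem hv (D.U.smul_mem _ hu₁.1)
      have hyn : D.NR y := ⟨hyU, u₁, hu₁.1, by
        simp [hy, D.skew hu₁.1 hv, D.alt u₁ hu₁.1, huv]⟩
      have h2 := hl0 _ (D.nr_sub hz2U hn hyn) (by simp [hz20, hy0])
      rwa [map_add, hl0 y hyn hy0, add_zero] at h2
    have h0 := D.eq_zero_of_nr hall hu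
    simp [hhl] at h0
    linear_combination h0
  obtain ⟨χ, hχe, hχU⟩ := Submodule.exists_dual_map_eq_bot_of_notMem he inferInstance
  have hχU' : ∀ u ∈ D.U, χ u = 0 := fun u hu => by
    have h2 : χ u ∈ D.U.map χ := Submodule.mem_map_of_mem hu
    rwa [hχU, Submodule.mem_bot] at h2
  set Φ' : V →ₗ[ZMod p] Dual (ZMod p) V :=
    D.Φ + ((χ e)⁻¹ • χ).smulRight (φ - D.Φ e) with hΦ'
  have hΦU : ∀ u ∈ D.U, Φ' u = D.Φ u := fun u hu => by simp [hΦ', hχU' u hu]
  have hΦe : Φ' e = φ := by simp [hΦ', inv_mul_cancel₀ hχe]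
  set U' := D.U ⊔ Submodule.span (ZMod p) {e} with hU'
  have hdec : ∀ x ∈ U', ∃ u ∈ D.U, ∃ a : ZMod p, x = u + a • e := by
    intro x hx
    obtain ⟨u, hu, y, hy, rfl⟩ := Submodule.mem_sup.1 hx
    obtain ⟨a, rfl⟩ := Submodule.mem_span_singleton.1 hy
    exact ⟨u, hu, a, rfl⟩
  have hΦx : ∀ u ∈ D.U, ∀ a : ZMod p, Φ' (u + a • e) = D.Φ u + a • φ := fun u hu a => by
    rw [map_add, map_smul, hΦU u hu, hΦe]
  have heU' : e ∈ U' := Submodule.mem_sup_right (Submodule.mem_span_singleton_self e)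
  -- the new centres
  have key : ∀ u ∈ D.U, (∃ v ∈ U', Φ' (u + e) v ≠ 0) → Pair G (Φ' (u + e)) (u + e) := by
    intro u hu hv
    have hform : Φ' (u + e) = D.Φ u + φ := by simpa using hΦx u hu 1
    rw [hform]
    have direct : ∀ w, D.NR w → D.Φ w e ≠ 0 → Pair G (D.Φ w + φ) (w + e) := fun w hw hwe => by
      have h2 := hw.pair.line hφe (by rw [hrel w hw.1, neg_neg]) hwe 1 1
      simpa using h2
    by_cases hx : ∃ z ∈ D.U, (D.Φ u + φ) z ≠ 0
    · obtain ⟨z, hz, hz1, hz2⟩ := D.exists_nr_both hp2 hx (β := φ)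
        ⟨u₁, hu₁.1, fun h0 => hu₁e (by rw [hrel u₁ hu₁.1, h0, neg_zero])⟩
      have hze : D.Φ z e ≠ 0 := by rw [hrel z hz.1]; exact neg_ne_zero.2 hz2
      obtain ⟨v, hvU, hzv⟩ := hz.2
      obtain ⟨t, ht1, ht2⟩ := exists_avoid_two hp2
        (fun t => D.Φ (u + t • z) e = 0) (fun t => D.Φ (u + t • z) v = 0)
        (fun s t hs ht => by
          simp only [map_add, map_smul, LinearMap.add_apply, LinearMap.smul_apply, smul_eq_mul] at hs ht
          exact mul_right_cancel₀ hze (by linear_combination hs - ht))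
        (fun s t hs ht => by
          simp only [map_add, map_smul, LinearMap.add_apply, LinearMap.smul_apply, smul_eq_mul] at hs ht
          exact mul_right_cancel₀ hzv (by linear_combination hs - ht))
      have hu' : D.NR (u + t • z) := ⟨D.U.add_mem hu (D.U.smul_mem _ hz.1), v, hvU, ht2⟩
      set k := (D.Φ u + φ) z with hk
      have hzx : D.Φ z (u + t • z + e) = -k := by
        simp [hk, hrel z hz.1, D.skew hu hz.1, D.alt z hz.1, add_comm]
      have hxz : (D.Φ (u + t • z) + φ) z = k := by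
        simp [hk, D.alt z hz.1]
      have h2 := (hz.pair.smul_left (t / k)).conj_pair (direct _ hu' ht1)
      rw [LinearMap.smul_apply, smul_eq_mul, hzx, hxz] at h2
      convert h2 using 1
      · rw [smul_smul, mul_div_cancel₀ _ hz1, map_add, map_smul]
        abel
      · rw [mul_neg, div_mul_cancel₀ _ hz1, neg_smul]
        abel
    · push Not at hx
      obtain ⟨v, hv', hxv⟩ := hv
      obtain ⟨w, hw, a, rfl⟩ := hdec v hv'
      rw [hform] at hxv
      have hue : D.Φ u e ≠ 0 := fun h0 => hxv (by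
        simp only [map_add, map_smul, hx w hw, LinearMap.add_apply, h0, hφe.1, add_zero, smul_zero])
      refine direct u ⟨hu, u₁, hu₁.1, fun h0 => ?_⟩ hue
      have h3 := hx u₁ hu₁.1
      simp only [LinearMap.add_apply, h0, zero_add] at h3
      exact hu₁e (by rw [hrel u₁ hu₁.1, h3, neg_zero])
  have hpair : ∀ u ∈ D.U, ∀ a : ZMod p, a ≠ 0 → (∃ v ∈ U', Φ' (u + a • e) v ≠ 0) →
      Pair G (Φ' (u + a • e)) (u + a • e) := by
    intro u hu a ha hv
    have hsc : u + a • e = a • (a⁻¹ • u + e) := by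
      rw [smul_add, smul_inv_smul₀ ha]
    obtain ⟨v, hv', hxv⟩ := hv
    rw [hsc, map_smul] at hxv ⊢
    exact ((key _ (D.U.smul_mem _ hu) ⟨v, hv', fun h0 => hxv (by rw [LinearMap.smul_apply, h0, smul_zero])⟩).smul_left a).smul_right a
  obtain ⟨a₀, ha₀, b₀, hb₀, hab₀⟩ := D.nondeg
  refine ⟨⟨U', Φ', ?_, ?_, ⟨a₀, Submodule.mem_sup_left ha₀, b₀, Submodule.mem_sup_left hb₀,
    by rwa [hΦU a₀ ha₀]⟩⟩, ?_⟩
  · intro x hx
    obtain ⟨u, hu, a, rfl⟩ := hdec x hx
    rw [hΦx u hu]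
    simp only [map_add, map_smul, LinearMap.add_apply, LinearMap.smul_apply, D.alt u hu,
      hrel u hu, hφe.1, smul_eq_mul]
    ring
  · intro x hx hnr
    obtain ⟨u, hu, a, rfl⟩ := hdec x hx
    rcases eq_or_ne a 0 with rfl | ha
    · rw [zero_smul, add_zero] at hnr ⊢
      rw [hΦU u hu]
      by_cases hn : D.NR u
      · exact hn.pair
      obtain ⟨v, hv, huv⟩ := hnr
      obtain ⟨w, hw, b, rfl⟩ := hdec v hv
      have h0 : D.Φ u w = 0 := by
        by_contra hh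
        exact hn ⟨hu, w, hw, hh⟩
      have hue : D.Φ u e ≠ 0 := fun he0 => huv (by
        rw [hΦU u hu]
        simp [h0, he0])
      have h2 := hpair u hu 1 one_ne_zero ⟨e, heU', by
        rw [hΦx u hu]; simpa [hφe.1] using hue⟩
      rw [one_smul] at h2
      have h3 := hΦx u hu 1
      rw [one_smul, one_smul] at h3
      rw [h3] at h2
      have h4 := h2.line hφe (by simp [hφe.1, hrel u hu]) (by simpa [hφe.1] using hue) 1 (-1)
      convert h4 using 1 <;> module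
    · exact hpair u hu a ha hnr
  · exact lt_of_le_of_ne le_sup_left fun heq => he (by
      rw [heq]; exact heU')

/-- The data exhausts all transvections of `G`. -/
def Exhausts : Prop :=
  (∀ u ∈ D.U, (∀ v ∈ D.U, D.Φ u v = 0) → u = 0) ∧
    ∀ χ c, χ ≠ 0 → c ≠ 0 → Pair G χ c → c ∈ D.U ∧ ∃ a : ZMod p, χ = a • D.Φ c

theorem exhausts_or_extend [Finite V] (hp2 : p ≠ 2) (hG : Conn G) (h1 : OneAxis G) :
    D.Exhausts ∨ ∃ D' : SympData G, D.U < D'.U := by
  by_cases hex : ∃ φ e, e ∉ D.U ∧ Pair G φ e ∧ ∃ u ∈ D.U, φ u ≠ 0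
  · obtain ⟨φ, e, he, h, hne⟩ := hex
    exact Or.inr (D.extend hp2 h1 he h hne)
  push Not at hex
  refine Or.inl ?_
  have hinv : Inv G D.U := hG.inv_of_pairs fun φ e _ _ h => by
    by_cases he : e ∈ D.U
    · exact Or.inl he
    · exact Or.inr (hex φ e he h)
  obtain ⟨a₀, ha₀, b₀, hb₀, hab₀⟩ := D.nondeg
  have hn₀ : D.NR a₀ := ⟨ha₀, b₀, hb₀, hab₀⟩
  have hcen : ∀ φ c, φ ≠ 0 → c ≠ 0 → Pair G φ c → c ∈ D.U := by
    rcases hG.centres_or_axes hp2 hinv with h | h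
    · exact h
    · exact absurd (h _ _ hn₀.ne_zero (fun e => hab₀ (by simp [e])) hn₀.pair b₀ hb₀) hab₀
  have hax : ∀ χ c, χ ≠ 0 → c ≠ 0 → Pair G χ c → D.NR c ∧ ∃ a : ZMod p, χ = a • D.Φ c := by
    intro χ c hχ hc h
    have hcU := hcen χ c hχ hc h
    have hn : D.NR c := by
      by_contra hn
      have hex' : ∃ u ∈ D.U, χ u ≠ 0 := by
        by_contra hh
        push Not at hh
        rcases hG.forbidden hp2 hinv h hcU hh with e | e
        · exact hχ e
        · exact hc e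
      obtain ⟨v, hv, hv1, -⟩ := D.exists_nr_both hp2 hex' hex'
      have h2 := h1.symm h hv.pair hc hv.ne_zero hv1
      rw [D.skew hcU hv.1] at h2
      exact hn ⟨hcU, v, hv.1, fun e => h2 (by rw [e, neg_zero])⟩
    exact ⟨hn, h1 (D.Φ c) χ c hc hn.ne_zero hn.pair h⟩
  refine ⟨fun r hr hrad => ?_, fun χ c hχ hc h => ⟨hcen χ c hχ hc h, (hax χ c hχ hc h).2⟩⟩
  let R : Submodule (ZMod p) V :=
    { carrier := {x | x ∈ D.U ∧ ∀ v ∈ D.U, D.Φ x v = 0}
      add_mem' := fun {x y} hx hy => ⟨D.U.add_mem hx.1 hy.1, fun v hv => by simp [hx.2 v hv, hy.2 v hv]⟩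
      zero_mem' := ⟨D.U.zero_mem, fun v _ => by simp⟩
      smul_mem' := fun a {x} hx => ⟨D.U.smul_mem _ hx.1, fun v hv => by simp [hx.2 v hv]⟩ }
  have hRinv : Inv G R := hG.inv_of_pairs fun φ c hφ hc h => by
    right
    intro x hx
    obtain ⟨hn, a, rfl⟩ := hax φ c hφ hc h
    rw [LinearMap.smul_apply, D.skew hx.1 hn.1, hx.2 c hn.1, neg_zero, smul_zero]
  have hrn : ¬ D.NR r := fun ⟨_, v, hv, h⟩ => h (hrad v hv)
  have hnr : D.NR (r + a₀) := D.nr_sub hr hrn hn₀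
  set g := (tv (D.Φ a₀) a₀)⁻¹ * tv (D.Φ (r + a₀)) (r + a₀) with hg
  have hgap : ∀ x, g x = x + D.Φ (r + a₀) x • (r + a₀) -
      D.Φ a₀ (x + D.Φ (r + a₀) x • (r + a₀)) • a₀ := fun x => by
    rw [hg, LinearEquiv.mul_apply, LinearEquiv.coe_inv, tv_symm_apply hn₀.pair.1,
      tv_apply hnr.pair.1]
  have hra : D.Φ a₀ r = 0 := by rw [D.skew hr ha₀, hrad a₀ ha₀, neg_zero]
  have hU : ∀ x ∈ D.U, g x - x = D.Φ a₀ x • r := fun x hx => by
    rw [hgap]
    simp only [map_add, map_smul, LinearMap.add_apply, hrad x hx, zero_add, hra, D.alt a₀ ha₀,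
      smul_eq_mul, mul_zero, add_zero]
    module
  have hg1 : g = 1 := by
    refine hG.stab_eq_one hp2 (R := R) (U := D.U) (fun x hx => hx.1) hRinv hinv
      (G.mul_mem (G.inv_mem hn₀.pair.2) hnr.pair.2) (fun x hx => ?_) (fun x hx => ?_) (fun x => ?_)
    · refine sub_eq_zero.1 ?_
      rw [hU x hx.1, D.skew hx.1 ha₀, hx.2 a₀ ha₀, neg_zero, zero_smul]
    · rw [hU x hx]
      exact R.smul_mem _ ⟨hr, hrad⟩
    · rw [hgap, add_sub_assoc, add_sub_cancel_left]
      exact D.U.sub_mem (D.U.smul_mem _ hnr.1) (D.U.smul_mem _ ha₀)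
  have h2 := hU b₀ hb₀
  rw [hg1] at h2
  simpa [hab₀] using h2.symm

/-- Maximal data exhausts. -/
theorem exists_exhausts [Finite V] (hp2 : p ≠ 2) (hG : Conn G) (h1 : OneAxis G) (D : SympData G) :
    ∃ D' : SympData G, D'.Exhausts := by
  suffices key : ∀ r (D : SympData G), Module.finrank (ZMod p) V ≤ Module.finrank (ZMod p) D.U + r →
      ∃ D' : SympData G, D'.Exhausts from key _ D (Nat.le_add_left _ _)
  intro r
  induction r with
  | zero =>
    intro D hr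
    rcases D.exhausts_or_extend hp2 hG h1 with h | ⟨D', hlt⟩
    · exact ⟨D, h⟩
    · have := Submodule.finrank_lt_finrank_of_lt hlt
      have := Submodule.finrank_le D'.U
      omega
  | succ r ih =>
    intro D hr
    rcases D.exhausts_or_extend hp2 hG h1 with h | ⟨D', hlt⟩
    · exact ⟨D, h⟩
    · have := Submodule.finrank_lt_finrank_of_lt hlt
      exact ih D' (by omega)

end SympData

/-- Two opposite transvections start the data. -/
theorem exists_sympData [Finite V] (hp2 : p ≠ 2) (hG : Conn G) {φ : Dual (ZMod p) V} {c : V}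
    (h : Pair G φ c) (hφ : φ ≠ 0) (hc : c ≠ 0) : Nonempty (SympData G) := by
  obtain ⟨ψ₀, d, h', hφd, hψc⟩ := hG.exists_opposite hp2 h hφ hc
  set ψ := (-(φ d / ψ₀ c)) • ψ₀ with hψ
  have hψd : Pair G ψ d := h'.smul_left _
  have hs : ψ c = -φ d := by simp [hψ, div_mul_cancel₀ _ hψc]
  set Φ : V →ₗ[ZMod p] Dual (ZMod p) V :=
    ((ψ c)⁻¹ • ψ).smulRight φ + ((φ d)⁻¹ • φ).smulRight ψ with hΦ
  have hΦab : ∀ a b : ZMod p, Φ (a • c + b • d) = a • φ + b • ψ := fun a b => by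
    have hψc' : ψ c ≠ 0 := by rw [hs]; exact neg_ne_zero.2 hφd
    simp only [hΦ, map_add, map_smul, LinearMap.add_apply, LinearMap.smulRight_apply,
      LinearMap.smul_apply, smul_eq_mul, h.1, hψd.1, mul_zero, zero_smul, add_zero, zero_add,
      inv_mul_cancel₀ hψc', inv_mul_cancel₀ hφd, one_smul]
  refine ⟨⟨Submodule.span (ZMod p) {c, d}, Φ, ?_, ?_, ⟨c, Submodule.subset_span (by simp), d,
    Submodule.subset_span (by simp), ?_⟩⟩⟩
  · intro u hu
    obtain ⟨a, b, rfl⟩ := Submodule.mem_span_pair.1 hu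
    rw [hΦab]
    simp [h.1, hψd.1, hs]
    ring
  · intro u hu _
    obtain ⟨a, b, rfl⟩ := Submodule.mem_span_pair.1 hu
    rw [hΦab]
    exact h.line hψd hs hφd a b
  · have h2 := hΦab 1 0
    rw [one_smul, zero_smul, add_zero, one_smul, zero_smul, add_zero] at h2
    rwa [h2]

end CfsgLib.McLaughlin
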