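import Cfsg.Agent.Lib.Recog.McLaughlin.Linear
import Cfsg.Agent.Lib.Recog.McLaughlin.Symplectic
import Cfsg.Agent.Lib.Classical.SLGroup
import Cfsg.Agent.Lib.Classical.Symplectic.Basic

/-!
# A connected transvection group is a special linear or symplectic group on a direct summand
-/

set_option autoImplicit false

namespace CfsgLib.McLaughlin

open Module

variable {p : ℕ} [Fact p.Prime] {V : Type*} [AddCommGroup V] [Module (ZMod p) V]

/-- The summand carrying a connected transvection group. -/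
structure Piece (K : Subgroup (V ≃ₗ[ZMod p] V)) where
  U : Submodule (ZMod p) V
  π : V →ₗ[ZMod p] V
  range_le : ∀ x, π x ∈ U
  fix : ∀ u ∈ U, π u = u
  pair_mem : ∀ φ c, φ ≠ 0 → c ≠ 0 → Pair K φ c → c ∈ U ∧ ∀ x, φ x = φ (π x)
  span : U ≤ Submodule.span (ZMod p) {c | c ≠ 0 ∧ ∃ φ, φ ≠ 0 ∧ Pair K φ c}
  sep : ∀ x, (∀ φ c, φ ≠ 0 → c ≠ 0 → Pair K φ c → φ x = 0) → π x = 0
  shape : ∀ ρ : ↥K →* (↥U ≃ₗ[ZMod p] ↥U), (∀ (h : ↥K) (v : ↥U), ((ρ h v : ↥U) : V) = (h : V ≃ₗ[ZMod p] V) (v : V)) →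
    (ρ.range : Set (↥U ≃ₗ[ZMod p] ↥U)) = {f : ↥U ≃ₗ[ZMod p] ↥U | LinearMap.det (f : ↥U →ₗ[ZMod p] ↥U) = 1} ∨
    ∃ B : LinearMap.BilinForm (ZMod p) ↥U, B.IsAlt ∧ B.Nondegenerate ∧
      (ρ.range : Set (↥U ≃ₗ[ZMod p] ↥U)) = {f : ↥U ≃ₗ[ZMod p] ↥U | ∀ x y, B (f x) (f y) = B x y}

/-- The image of a group generated by transvections lies in a subgroup containing their images. -/
theorem range_le_of_pairs {K : Subgroup (V ≃ₗ[ZMod p] V)} (hK : TGroup K) {X : Type*} [Group X]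
    (ρ : ↥K →* X) (S : Subgroup X)
    (h : ∀ φ c, φ ≠ 0 → c ≠ 0 → (hp : Pair K φ c) → ρ ⟨tv φ c, hp.2⟩ ∈ S) : ρ.range ≤ S := by
  rintro _ ⟨⟨g, hg⟩, rfl⟩
  suffices hs : Subgroup.closure {t | ∃ φ c, φ ≠ 0 ∧ c ≠ 0 ∧ Pair K φ c ∧ t = tv φ c} ≤
      (S.comap ρ).map K.subtype by
    obtain ⟨⟨g', hg'⟩, hS, e⟩ := hs (hK.gen hg)
    obtain rfl : g' = g := e
    exact hS
  rw [Subgroup.closure_le]
  rintro _ ⟨φ, c, hφ, hc, hp, rfl⟩
  exact ⟨⟨tv φ c, hp.2⟩, h φ c hφ hc hp, rfl⟩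

variable [Finite V] {G : Subgroup (V ≃ₗ[ZMod p] V)}

theorem ElemData.piece (hG : Conn G) {n : ℕ} (hn : 3 ≤ n) (D : ElemData G n) (hD : D.Exhausts) :
    Nonempty (Piece G) := by
  classical
  let π : V →ₗ[ZMod p] V := ∑ i, (D.f i).smulRight (D.b i)
  have hπ : ∀ x, π x = D.proj x := fun x => by simp [π, ElemData.proj]
  have hne : ∀ i, D.b i ≠ 0 ∧ D.f i ≠ 0 := fun i =>
    ⟨fun e => by simpa [e] using D.dual i i, fun e => by simpa [e] using D.dual i i⟩
  set U := Submodule.span (ZMod p) (Set.range D.b) with hU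
  have hbU : ∀ i, D.b i ∈ U := fun i => Submodule.subset_span (Set.mem_range_self i)
  have hfix : ∀ u ∈ U, π u = u := by
    intro u hu
    obtain ⟨g, rfl⟩ := (Submodule.mem_span_range_iff_exists_fun (ZMod p)).1 hu
    simp [hπ, ElemData.proj, map_sum, D.dual]
  have hrange : ∀ x, π x ∈ U := fun x => by
    rw [hπ]
    exact Submodule.sum_mem _ fun i _ => Submodule.smul_mem _ _ (hbU i)
  refine ⟨⟨U, π, hrange, hfix, fun φ c hφ hc h => ?_, ?_, fun x hx => ?_, fun ρ hρ => ?_⟩⟩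
  · obtain ⟨h1, h2⟩ := hD φ c hφ hc h
    refine ⟨h1 ▸ (hπ c ▸ hrange c), fun x => ?_⟩
    rw [hπ, ← D.projDual_apply, h2]
  · refine Submodule.span_le.2 ?_
    rintro _ ⟨i, rfl⟩
    obtain ⟨j, -, -, hj, -⟩ := ElemData.exists_third hn i
    exact Submodule.subset_span ⟨(hne i).1, D.f j, (hne j).2, D.elem i j hj.symm⟩
  · rw [hπ]
    refine Finset.sum_eq_zero fun i _ => ?_
    obtain ⟨j, -, -, hj, -⟩ := ElemData.exists_third hn i
    rw [hx _ _ (hne i).2 (hne j).1 (D.elem j i hj), zero_smul]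
  left
  have hli : LinearIndependent (ZMod p) D.b := by
    refine Fintype.linearIndependent_iff.2 fun g hg k => ?_
    have h := congrArg (D.f k) hg
    simpa [map_sum, D.dual] using h
  let bU : Basis (Fin n) (ZMod p) U := Basis.span hli
  have hbU' : ∀ i, ((bU i : U) : V) = D.b i := fun i => Basis.coe_span_apply hli i
  have hcoord : ∀ (u : U) (i : Fin n), bU.equivFun u i = D.f i u := by
    intro u i
    have h : bU.coord i = (D.f i).comp U.subtype := bU.ext fun j => by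
      simp [hbU', D.dual, Finsupp.single_apply, eq_comm]
    exact LinearMap.congr_fun h u
  refine Set.Subset.antisymm ?_ ?_
  · intro f hf
    have h := range_le_of_pairs hG.toTGroup ρ
      (MonoidHom.ker (LinearEquiv.det : (↥U ≃ₗ[ZMod p] ↥U) →* (ZMod p)ˣ)) (fun φ c hφ hc hp => ?_) hf
    · have h2 : LinearEquiv.det f = 1 := h
      show LinearMap.det (f : ↥U →ₗ[ZMod p] ↥U) = 1
      rw [← LinearEquiv.coe_det, h2, Units.val_one]
    · obtain ⟨h1, h2⟩ := hD φ c hφ hc hp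
      have hcU : c ∈ U := h1 ▸ (hπ c ▸ hrange c)
      have hφc : (φ.comp U.subtype) ⟨c, hcU⟩ = 0 := hp.1
      have he : ρ ⟨tv φ c, hp.2⟩ = tv (φ.comp U.subtype) ⟨c, hcU⟩ := by
        ext v
        rw [hρ, tv_apply hφc]
        simp [tv_apply hp.1]
      rw [MonoidHom.mem_ker, he, tv_det hφc]
  · intro f hf
    let M : Matrix.SpecialLinearGroup (Fin n) (ZMod p) →* (↥U ≃ₗ[ZMod p] ↥U) :=
      MonoidHom.mk' (fun A => bU.equivFun.trans
        ((Matrix.SpecialLinearGroup.toLin' A).trans bU.equivFun.symm)) fun A B => by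
        apply LinearEquiv.ext
        intro v
        rw [map_mul, LinearEquiv.mul_apply]
        simp only [LinearEquiv.trans_apply, LinearEquiv.apply_symm_apply, LinearEquiv.mul_apply]
    have htop : ρ.range.comap M = ⊤ := by
      haveI : Nontrivial (Fin n) := Fin.nontrivial_iff_two_le.2 (by omega)
      refine CfsgLib.Classical.closure_transvection_eq_top _ fun i j hij c => ?_
      have hp : Pair G (c • D.f j) (D.b i) := (D.elem i j hij).smul_left c
      refine ⟨⟨_, hp.2⟩, ?_⟩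
      ext v
      have h1 : M (Matrix.SpecialLinearGroup.transvection hij c) v =
          v + (c * D.f j (v : V)) • bU i := by
        refine bU.equivFun.injective (funext fun k => ?_)
        have h2 := CfsgLib.Classical.transvection_smul_apply hij c (bU.equivFun v) k
        simp only [M, MonoidHom.mk'_apply, LinearEquiv.trans_apply, LinearEquiv.apply_symm_apply,
          map_add, map_smul, Pi.add_apply, Pi.smul_apply, Basis.equivFun_self, smul_eq_mul]
        rw [Matrix.SpecialLinearGroup.toLin'_apply]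
        rw [Matrix.toLin'_apply]
        refine Eq.trans h2 ?_
        rw [hcoord v j]
        rcases eq_or_ne k i with rfl | hk
        · simp
        · simp [hk, hk.symm]
      rw [hρ, h1]
      simp [tv_apply hp.1, hbU']
    let A : Matrix (Fin n) (Fin n) (ZMod p) := LinearMap.toMatrix bU bU (f : ↥U →ₗ[ZMod p] ↥U)
    have hA : A.det = 1 := by
      rw [show A.det = LinearMap.det (f : ↥U →ₗ[ZMod p] ↥U) from LinearMap.det_toMatrix bU _]
      exact hf
    obtain ⟨A', hA'⟩ : ∃ A' : Matrix.SpecialLinearGroup (Fin n) (ZMod p),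
        (A' : Matrix (Fin n) (Fin n) (ZMod p)) = A := ⟨⟨A, hA⟩, rfl⟩
    have h1 : M A' ∈ ρ.range := Subgroup.mem_comap.1 (htop ▸ Subgroup.mem_top A')
    have h2 : M A' = f := by
      apply LinearEquiv.ext
      intro v
      apply bU.equivFun.injective
      show bU.equivFun (bU.equivFun.symm (Matrix.SpecialLinearGroup.toLin' A' (bU.equivFun v))) = _
      rw [LinearEquiv.apply_symm_apply, Matrix.SpecialLinearGroup.toLin'_apply, Matrix.toLin'_apply, hA']
      exact LinearMap.toMatrix_mulVec_repr bU bU _ v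
    rwa [h2] at h1

theorem SympData.piece (hG : Conn G) (D : SympData G) (hD : D.Exhausts) : Nonempty (Piece G) := by
  classical
  let B : LinearMap.BilinForm (ZMod p) ↥D.U := LinearMap.compl₁₂ D.Φ D.U.subtype D.U.subtype
  have hB : ∀ x y : D.U, B x y = D.Φ (x : V) (y : V) := fun x y => rfl
  have halt : B.IsAlt := fun x => by rw [hB]; exact D.alt _ x.2
  have hinj : Function.Injective (B.flip : ↥D.U →ₗ[ZMod p] Dual (ZMod p) ↥D.U) := by
    rw [injective_iff_map_eq_zero]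
    intro u hu
    refine Subtype.ext (hD.1 u u.2 fun v hv => ?_)
    have h := LinearMap.congr_fun hu (⟨v, hv⟩ : D.U)
    rw [LinearMap.BilinForm.flip_apply, hB] at h
    rw [D.skew hv u.2]
    simpa using h
  let e : ↥D.U ≃ₗ[ZMod p] Dual (ZMod p) ↥D.U :=
    LinearMap.linearEquivOfInjective (B.flip : ↥D.U →ₗ[ZMod p] Dual (ZMod p) ↥D.U) hinj
      Subspace.dual_finrank_eq.symm
  let res : V →ₗ[ZMod p] Dual (ZMod p) ↥D.U := (D.Φ.comp D.U.subtype).flip
  let π : V →ₗ[ZMod p] V := D.U.subtype.comp (e.symm.toLinearMap.comp res)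
  have hπ : ∀ x, ∀ v : D.U, D.Φ (v : V) (π x) = D.Φ (v : V) x := fun x v => by
    have h := LinearMap.congr_fun (e.apply_symm_apply (res x)) v
    exact h
  have hrange : ∀ x, π x ∈ D.U := fun x => (e.symm (res x)).2
  have hnr : ∀ u ∈ D.U, u ≠ 0 → ∃ v ∈ D.U, D.Φ u v ≠ 0 := fun u hu h0 => by
    by_contra hc
    push Not at hc
    exact h0 (hD.1 u hu hc)
  have hfix : ∀ u ∈ D.U, π u = u := by
    intro u hu
    refine sub_eq_zero.1 (hD.1 _ (D.U.sub_mem (hrange u) hu) fun v hv => ?_)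
    rw [← neg_eq_zero, ← D.skew (D.U.sub_mem (hrange u) hu) hv, map_sub, hπ u ⟨v, hv⟩, sub_self]
  refine ⟨⟨D.U, π, hrange, hfix, fun φ c hφ hc h => ?_, ?_, fun x hx => ?_, fun ρ hρ => ?_⟩⟩
  · obtain ⟨hcU, a, rfl⟩ := hD.2 φ c hφ hc h
    exact ⟨hcU, fun x => by simp [hπ x ⟨c, hcU⟩]⟩
  · intro u hu
    rcases eq_or_ne u 0 with rfl | h0
    · exact Submodule.zero_mem _
    obtain ⟨v, hv, huv⟩ := hnr u hu h0
    exact Submodule.subset_span ⟨h0, D.Φ u, fun e => huv (by simp [e]), D.pair u hu ⟨v, hv, huv⟩⟩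
  · refine hD.1 _ (hrange x) fun v hv => ?_
    rcases eq_or_ne v 0 with rfl | h0
    · simp
    obtain ⟨w, hw, hvw⟩ := hnr v hv h0
    rw [D.skew hv (hrange x), hπ x ⟨v, hv⟩,
      hx _ v (fun e => hvw (by simp [e])) h0 (D.pair v hv ⟨w, hw, hvw⟩), neg_zero]
  right
  have hnd : B.Nondegenerate :=
    ⟨fun x h => Subtype.ext (hD.1 x x.2 fun v hv => h ⟨v, hv⟩),
      fun y h => Subtype.ext (hD.1 y y.2 fun v hv => by
        rw [D.skew hv y.2, ← hB ⟨v, hv⟩ y, h ⟨v, hv⟩, neg_zero])⟩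
  refine ⟨B, halt, hnd, Set.Subset.antisymm ?_ ?_⟩
  · intro f hf
    refine range_le_of_pairs hG.toTGroup ρ (CfsgLib.Classical.Symp.Sp B) (fun φ c hφ hc hp => ?_) hf
    obtain ⟨hcU, a, rfl⟩ := hD.2 φ c hφ hc hp
    have he : ρ ⟨tv (a • D.Φ c) c, hp.2⟩ =
        (CfsgLib.Classical.Symp.tr halt ⟨c, hcU⟩ (-a) : ↥D.U ≃ₗ[ZMod p] ↥D.U) := by
      ext v
      rw [hρ, CfsgLib.Classical.Symp.tr_apply]
      simp [tv_apply hp.1, hB, D.skew hcU v.2]
    rw [he]
    exact SetLike.coe_mem _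
  · intro f hf
    have htop := CfsgLib.Classical.Symp.trGroup_eq_top halt hnd
    have hle : CfsgLib.Classical.Symp.trGroup halt ⊤ ≤
        ρ.range.comap (CfsgLib.Classical.Symp.Sp B).subtype := by
      rw [CfsgLib.Classical.Symp.trGroup, Subgroup.closure_le]
      rintro _ ⟨v, -, c, rfl⟩
      rcases eq_or_ne (v : V) 0 with h0 | h0
      · refine ⟨1, ?_⟩
        ext x
        simp [CfsgLib.Classical.Symp.tr_apply, hB, h0]
      obtain ⟨w, hw, hvw⟩ := hnr v v.2 h0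
      have hp := (D.pair (v : V) v.2 ⟨w, hw, hvw⟩).smul_left (-c)
      refine ⟨⟨_, hp.2⟩, ?_⟩
      ext x
      rw [hρ, Subgroup.coe_subtype, CfsgLib.Classical.Symp.tr_apply]
      simp [tv_apply hp.1, hB, D.skew v.2 x.2]
    exact hle (htop ▸ Subgroup.mem_top (⟨f, hf⟩ : CfsgLib.Classical.Symp.Sp B))

/-- A connected transvection group has a piece. -/
theorem Conn.piece (hp2 : p ≠ 2) (hG : Conn G) {φ : Dual (ZMod p) V} {c : V}
    (h : Pair G φ c) (hφ : φ ≠ 0) (hc : c ≠ 0) : Nonempty (Piece G) := by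
  by_cases h1 : OneAxis G
  · obtain ⟨D⟩ := exists_sympData hp2 hG h hφ hc
    obtain ⟨D', hD'⟩ := D.exists_exhausts hp2 hG h1
    exact D'.piece hG hD'
  · simp only [OneAxis] at h1
    push Not at h1
    obtain ⟨φ', m, c', hc', hφ', hp1, hp2', hind⟩ := h1
    obtain ⟨D⟩ := exists_elemData_three hp2 hG hc' hp1 hp2' hφ' hind
    obtain ⟨n, hn, D', hD'⟩ := D.exists_exhausts hp2 hG le_rfl
    exact D'.piece hG hn hD'

end CfsgLib.McLaughlin
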